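import Groth.Agent.Coherent.K56.C4
import Groth.Agent.FormalB.ModPowAff2

/-!
# When is the base change map `CohCmp.GenBC.bc` an epimorphism?
-/

set_option autoImplicit false

universe u

open CategoryTheory CategoryTheory.Limits AlgebraicGeometry TopologicalSpace Opposite

namespace K56.C4

open K56.SchMap Groth.Agent.CohqA.BaseChangeMod Groth.Agent.CohqA.PullbackUniv
  Groth.Agent.CohqA.PullbackQCoh Groth.Agent.CohqA.PullbackAffine Groth.Agent.CohqA.PullbackSections

theorem span_range_of_isBC {A B : Type u} [CommRing A] [CommRing B] {M N : Type u} [AddCommGroup M]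
    [Module A M] [AddCommGroup N] [Module B N] {φ : A →+* B} {m : M →+ N} (h : IsBC φ m) :
    Submodule.span B (Set.range m) = ⊤ := by
  have h1 : (Submodule.span B (Set.range m)).mkQ = 0 := h.hom_ext fun x => by
    rw [LinearMap.zero_apply, Submodule.mkQ_apply, Submodule.Quotient.mk_eq_zero]
    exact Submodule.subset_span ⟨x, rfl⟩
  rw [← Submodule.ker_mkQ (Submodule.span B (Set.range m)), h1, LinearMap.ker_zero]

/-- A linear map out of the target of a base change is surjective iff the images of the generators span. -/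
theorem surjective_iff_span {A B : Type u} [CommRing A] [CommRing B] {M N N₂ : Type u} [AddCommGroup M]
    [Module A M] [AddCommGroup N] [Module B N] [AddCommGroup N₂] [Module B N₂] {φ : A →+* B} {m : M →+ N}
    (h : IsBC φ m) (k : N →ₗ[B] N₂) :
    Function.Surjective k ↔ Submodule.span B (Set.range (fun x => k (m x))) = ⊤ := by
  have h1 : Submodule.span B (Set.range (fun x => k (m x))) = LinearMap.range k := by
    rw [show (Set.range fun x => k (m x)) = k '' (Set.range m) from by
      rw [← Set.range_comp]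
      rfl, Submodule.span_image, span_range_of_isBC h, Submodule.map_top]
  rw [h1, LinearMap.range_eq_top]

theorem span_range_iff {B : Type u} [CommRing B] {M M₂ N N₂ : Type u} [AddCommGroup N]
    [Module B N] [AddCommGroup N₂] [Module B N₂] (e : M → M₂) (he : Function.Surjective e) (k : N →ₗ[B] N₂)
    (hk : Function.Bijective k) (m : M → N) (m₂ : M₂ → N₂) (h : ∀ x, m₂ (e x) = k (m x)) :
    Submodule.span B (Set.range m) = ⊤ ↔ Submodule.span B (Set.range m₂) = ⊤ := by
  have h1 : Set.range m₂ = k '' (Set.range m) := by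
    rw [← Set.range_comp, ← he.range_comp]
    exact congrArg Set.range (funext h)
  rw [h1, Submodule.span_image]
  constructor
  · intro h2
    rw [h2, Submodule.map_top, LinearMap.range_eq_top]
    exact hk.2
  · intro h2
    refine Submodule.map_injective_of_injective hk.1 ?_
    rw [h2, Submodule.map_top, LinearMap.range_eq_top.2 hk.2]

variable {X S X' S' : Scheme.{u}} {f : X ⟶ S} {g : S' ⟶ S} {f' : X' ⟶ S'} {g' : X' ⟶ X}
  {w : g' ≫ f = f' ≫ g} [HasInjectiveResolutions X.Modules] [HasInjectiveResolutions X'.Modules]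
  {Δ : RDer.DerivedLES (Scheme.Modules.pushforward f)} {Δ' : RDer.DerivedLES (Scheme.Modules.pushforward f')}
  {E : CohCmp.SectCmp f Δ} {E' : CohCmp.SectCmp f' Δ'} (B : CohCmp.GenBC f g f' g' w E E')

theorem secMap_bc (F : X.Modules) (p : ℕ) {V : S.Opens} {W : S'.Opens} (h : W ≤ g ⁻¹ᵁ V)
    (x : Γ((Coh.Rpush f p).obj F, V)) :
    secMap g (B.φ p F) V W h x = (B.bc p F).app W (pbSec g _ V W h x) := by
  have h1 : B.φ p F = pbUnit g _ ≫ (Scheme.Modules.pushforward g).map (B.bc p F) :=
    ((Scheme.Modules.pullbackPushforwardAdjunction g).homEquiv _ _).apply_symm_apply (B.φ p F) |>.symm.trans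
      (Adjunction.homEquiv_unit _ _ _ _)
  rw [h1]
  exact secMap_comp g (pbUnit g _) (B.bc p F) V W h x

variable [QuasiCompact f] [QuasiSeparated f] [QuasiCompact f'] [QuasiSeparated f']
  (F : X.Modules) (hF : Coh.IsQCoh F)

include hF in
theorem surjective_bc_iff (p : ℕ) {V : S.Opens} (hV : IsAffineOpen V)
    {W : S'.Opens} (hW : IsAffineOpen W) (e : W ≤ g ⁻¹ᵁ V) :
    Function.Surjective ((B.bc p F).app W) ↔
      Submodule.span Γ(S', W) (Set.range (pullB w F e p)) = ⊤ := by
  have h0 : F.IsQuasicoherent := hF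
  have h1 : ((Coh.Rpush f p).obj F).IsQuasicoherent := Groth.Agent.CohqA.RelCoh.isQCoh_Rpush f F hF p
  rw [span_range_iff (HOb.epsL f E F V p) (HOb.epsL_bijective f E F hF hV p).2
    (HOb.epsL f' E' ((Scheme.Modules.pullback g').obj F) W p)
    (HOb.epsL_bijective f' E' _ (isQuasicoherent_pullback g' F) hW p) (pullB w F e p)
    (fun x => (B.bc p F).app W (pbSec g _ V W e x))
    (fun x => (secMap_bc B F p e _).symm.trans (secMap_eps B F e p x))]
  exact surjective_iff_span (isBC_pbSec g _ hV hW e)
    { ((B.bc p F).app W).hom with map_smul' := fun r x => Scheme.Modules.Hom.app_smul (B.bc p F) r x }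

include hF in
/-- The base change map is an epimorphism if on enough affine pairs the classes pulled back generate. -/
theorem epi_bc (p : ℕ) (h : ∀ y : S', ∃ (V : S.Opens) (W : S'.Opens) (_ : IsAffineOpen V)
      (_ : IsAffineOpen W) (e : W ≤ g ⁻¹ᵁ V), y ∈ W ∧
        Submodule.span Γ(S', W) (Set.range (pullB w F e p)) = ⊤) :
    Epi (B.bc p F) := by
  have h0 : F.IsQuasicoherent := hF
  refine Groth.Agent.FormalB.ModPowAff2.epi_of_affine_cover
    (Groth.Agent.CohqA.RelCoh.isQCoh_Rpush f' _ (isQuasicoherent_pullback g' F) p) _ fun y => ?_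
  obtain ⟨V, W, hV, hW, e, hy, hs⟩ := h y
  exact ⟨W, hy, hW, (surjective_bc_iff B F hF p hV hW e).2 hs⟩

include hF in
/-- Conversely. -/
theorem span_of_epi (p : ℕ) (h : Epi (B.bc p F)) {V : S.Opens} (hV : IsAffineOpen V)
    {W : S'.Opens} (hW : IsAffineOpen W) (e : W ≤ g ⁻¹ᵁ V) :
    Submodule.span Γ(S', W) (Set.range (pullB w F e p)) = ⊤ := by
  have h0 : F.IsQuasicoherent := hF
  have h1 : ((Coh.Rpush f p).obj F).IsQuasicoherent := Groth.Agent.CohqA.RelCoh.isQCoh_Rpush f F hF p
  refine (surjective_bc_iff B F hF p hV hW e).1 ?_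
  exact Groth.Agent.CohqB.QC5.app_surjective_of_epi (B.bc p F) (isQuasicoherent_pullback g _)
    (Groth.Agent.CohqA.RelCoh.isQCoh_Rpush f' _ (isQuasicoherent_pullback g' F) p) hW

end K56.C4
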