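import Groth.Agent.Coherent.K55.HX
import Groth.Agent.Coherent.K55.PackV0
import Groth.Agent.Coherent.K56.C4b

/-!
# The dictionary `K56.C4` in terms of `K55.HX` (that is, `Coh.HH`) and `CohPull.pullOn`
-/

set_option autoImplicit false

universe u

open CategoryTheory CategoryTheory.Limits AlgebraicGeometry TopologicalSpace Opposite

namespace K56.Bridge

open K55 K55.PackV Groth.Agent.CohqA.BaseChangeMod

variable {X S : Scheme.{u}} (f : X ⟶ S) (F : X.Modules)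

/-- `H^p(f⁻¹V, F)` (same as `K55.PackV.HV`). -/
abbrev HVx (V : S.Opens) (p : ℕ) : Type u := HX (f ⁻¹ᵁ V).toScheme (F.restrict (f ⁻¹ᵁ V).ι) p

/-- The `Γ(S, V)`-module structure on `H^p(f⁻¹V, F)` through `K55.PackV.secRing`. -/
@[reducible] noncomputable def modV (V : S.Opens) (p : ℕ) : Module Γ(S, V) (HVx f F V p) :=
  Module.compHom (HVx f F V p) (secRing f V)

/-- The comparison `HVx = HOb`. -/
noncomputable def toHOb (V : S.Opens) (p : ℕ) :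
    letI := modV f F V p
    HVx f F V p →ₗ[Γ(S, V)] HOb f F V p :=
  letI := modV f F V p
  { toFun := fun x => HOb.of f F V p (HO.of F (f ⁻¹ᵁ V) p (HX.toHH _ p x))
    map_add' := fun x y => by rw [map_add, map_add, map_add]
    map_smul' := fun r x => rfl }

theorem toHOb_apply (V : S.Opens) (p : ℕ) (x : HVx f F V p) :
    letI := modV f F V p
    toHOb f F V p x = HOb.of f F V p (HO.of F (f ⁻¹ᵁ V) p (HX.toHH _ p x)) := rfl

theorem toHOb_bijective (V : S.Opens) (p : ℕ) :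
    letI := modV f F V p
    Function.Bijective (toHOb f F V p) :=
  ((HOb.of f F V p).bijective.comp ((HO.of F (f ⁻¹ᵁ V) p).bijective.comp (HX.toHH _ p).bijective))

variable {S' X' : Scheme.{u}} (g : S' ⟶ S) (f' : X' ⟶ S') (g' : X' ⟶ X) (w : g' ≫ f = f' ≫ g)

theorem pullB_toHOb {V : S.Opens} {W : S'.Opens} (h : W ≤ g ⁻¹ᵁ V)
    (hle : f' ⁻¹ᵁ W ≤ g' ⁻¹ᵁ (f ⁻¹ᵁ V)) (p : ℕ) (x : HVx f F V p) :
    C4.pullB w F h p (HOb.of f F V p (HO.of F (f ⁻¹ᵁ V) p (HX.toHH _ p x))) =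
      HOb.of f' ((Scheme.Modules.pullback g').obj F) W p (HO.of _ (f' ⁻¹ᵁ W) p (HX.toHH _ p
        (HX.pullOn g' (f ⁻¹ᵁ V) (f' ⁻¹ᵁ W) hle F p x))) := by
  rw [HX.toHH_pullOn, HO.of_pullOn]
  rfl

theorem isBC_iff {V : S.Opens} {W : S'.Opens} (h : W ≤ g ⁻¹ᵁ V)
    (hle : f' ⁻¹ᵁ W ≤ g' ⁻¹ᵁ (f ⁻¹ᵁ V)) (p : ℕ) :
    (letI := modV f F V p
     letI := modV f' ((Scheme.Modules.pullback g').obj F) W p
     IsBC (g.appLE V W h).hom (HX.pullOn g' (f ⁻¹ᵁ V) (f' ⁻¹ᵁ W) hle F p)) ↔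
      IsBC (g.appLE V W h).hom (C4.pullB w F h p) :=
  letI := modV f F V p
  letI := modV f' ((Scheme.Modules.pullback g').obj F) W p
  C4.isBC_iff (toHOb f F V p) (toHOb_bijective f F V p)
    (toHOb f' ((Scheme.Modules.pullback g').obj F) W p)
    (toHOb_bijective f' ((Scheme.Modules.pullback g').obj F) W p) _ _
    (fun x => pullB_toHOb f F g f' g' w h hle p x)

theorem span_iff {V : S.Opens} {W : S'.Opens} (h : W ≤ g ⁻¹ᵁ V)
    (hle : f' ⁻¹ᵁ W ≤ g' ⁻¹ᵁ (f ⁻¹ᵁ V)) (p : ℕ) :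
    (letI := modV f' ((Scheme.Modules.pullback g').obj F) W p
     Submodule.span Γ(S', W) (Set.range (HX.pullOn g' (f ⁻¹ᵁ V) (f' ⁻¹ᵁ W) hle F p)) = ⊤) ↔
      Submodule.span Γ(S', W) (Set.range (C4.pullB w F h p)) = ⊤ :=
  letI := modV f' ((Scheme.Modules.pullback g').obj F) W p
  C4.span_range_iff (fun x : HVx f F V p => HOb.of f F V p (HO.of F (f ⁻¹ᵁ V) p (HX.toHH _ p x)))
    (toHOb_bijective f F V p).2
    (toHOb f' ((Scheme.Modules.pullback g').obj F) W p)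
    (toHOb_bijective f' ((Scheme.Modules.pullback g').obj F) W p) _ _
    (fun x => pullB_toHOb f F g f' g' w h hle p x)

variable {f g f' g' w} [HasInjectiveResolutions X.Modules] [HasInjectiveResolutions X'.Modules]
  {Δ : RDer.DerivedLES (Scheme.Modules.pushforward f)} {Δ' : RDer.DerivedLES (Scheme.Modules.pushforward f')}
  {E : CohCmp.SectCmp f Δ} {E' : CohCmp.SectCmp f' Δ'} (B : CohCmp.GenBC f g f' g' w E E')
  [QuasiCompact f] [QuasiSeparated f] [QuasiCompact f'] [QuasiSeparated f'] (hF : Coh.IsQCoh F)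

include hF

/-- **C4a.** The base change map is an isomorphism if the pullback maps on affine pairs covering `S'` are base changes. -/
theorem isIso_bc (p : ℕ) (h : ∀ y : S', ∃ (V : S.Opens) (W : S'.Opens) (_ : IsAffineOpen V)
      (_ : IsAffineOpen W) (e : W ≤ g ⁻¹ᵁ V) (hle : f' ⁻¹ᵁ W ≤ g' ⁻¹ᵁ (f ⁻¹ᵁ V)), y ∈ W ∧
        (letI := modV f F V p
         letI := modV f' ((Scheme.Modules.pullback g').obj F) W p
         IsBC (g.appLE V W e).hom (HX.pullOn g' (f ⁻¹ᵁ V) (f' ⁻¹ᵁ W) hle F p))) :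
    IsIso (B.bc p F) := by
  refine C4.isIso_bc B F hF p fun y => ?_
  obtain ⟨V, W, hV, hW, e, hle, hy, hbc⟩ := h y
  exact ⟨V, W, hV, hW, e, hy, (isBC_iff f F g f' g' w e hle p).1 hbc⟩

/-- **C4a**, converse. -/
theorem isBC_of_isIso (p : ℕ) (h : IsIso (B.bc p F)) {V : S.Opens} (hV : IsAffineOpen V)
    {W : S'.Opens} (hW : IsAffineOpen W) (e : W ≤ g ⁻¹ᵁ V) (hle : f' ⁻¹ᵁ W ≤ g' ⁻¹ᵁ (f ⁻¹ᵁ V)) :
    letI := modV f F V p
    letI := modV f' ((Scheme.Modules.pullback g').obj F) W p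
    IsBC (g.appLE V W e).hom (HX.pullOn g' (f ⁻¹ᵁ V) (f' ⁻¹ᵁ W) hle F p) :=
  (isBC_iff f F g f' g' w e hle p).2 (C4.isBC_of_isIso B F hF p h hV hW e)

/-- **C4b.** The base change map is an epimorphism if on affine pairs covering `S'` the classes pulled back generate. -/
theorem epi_bc (p : ℕ) (h : ∀ y : S', ∃ (V : S.Opens) (W : S'.Opens) (_ : IsAffineOpen V)
      (_ : IsAffineOpen W) (_ : W ≤ g ⁻¹ᵁ V) (hle : f' ⁻¹ᵁ W ≤ g' ⁻¹ᵁ (f ⁻¹ᵁ V)), y ∈ W ∧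
        (letI := modV f' ((Scheme.Modules.pullback g').obj F) W p
         Submodule.span Γ(S', W) (Set.range (HX.pullOn g' (f ⁻¹ᵁ V) (f' ⁻¹ᵁ W) hle F p)) = ⊤)) :
    Epi (B.bc p F) := by
  refine C4.epi_bc B F hF p fun y => ?_
  obtain ⟨V, W, hV, hW, e, hle, hy, hs⟩ := h y
  exact ⟨V, W, hV, hW, e, hy, (span_iff f F g f' g' w e hle p).1 hs⟩

/-- **C4b**, converse. -/
theorem span_of_epi (p : ℕ) (h : Epi (B.bc p F)) {V : S.Opens} (hV : IsAffineOpen V)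
    {W : S'.Opens} (hW : IsAffineOpen W) (e : W ≤ g ⁻¹ᵁ V) (hle : f' ⁻¹ᵁ W ≤ g' ⁻¹ᵁ (f ⁻¹ᵁ V)) :
    letI := modV f' ((Scheme.Modules.pullback g').obj F) W p
    Submodule.span Γ(S', W) (Set.range (HX.pullOn g' (f ⁻¹ᵁ V) (f' ⁻¹ᵁ W) hle F p)) = ⊤ :=
  (span_iff f F g f' g' w e hle p).2 (C4.span_of_epi B F hF p h hV hW e)

end K56.Bridge
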