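import Groth.Agent.Coherent.K56.PushEdge
import Groth.Agent.S0484

/-!
# Affine morphisms: higher direct images of quasi-coherent modules vanish
-/

set_option autoImplicit false

universe u

open CategoryTheory CategoryTheory.Limits AlgebraicGeometry TopologicalSpace Opposite

namespace K56.AffEdge

variable {X Y : Scheme.{u}}

theorem hasInjectiveResolutions (X : Scheme.{u}) : HasInjectiveResolutions X.Modules := by
  have : IsGrothendieckAbelian.{u} X.Modules :=
    Groth.Agent.S0484.result (Opens.grothendieckTopology X) X.ringCatSheaf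
  have : EnoughInjectives X.Modules := inferInstance
  infer_instance

theorem isAcyc (f : X ⟶ Y) [IsAffineHom f] [HasInjectiveResolutions X.Modules] (F : X.Modules)
    (hF : Coh.IsQCoh F) : Groth.Agent.Cohder.RDAcyc.IsAcyc (Scheme.Modules.pushforward f) F := by
  intro n hn
  obtain ⟨n, rfl⟩ : ∃ m, n = m + 1 := ⟨n - 1, by omega⟩
  refine Groth.Agent.Ega3B.RpushAff.isZero_of_cover _
    (Groth.Agent.CohqA.RelCoh.isQCoh_Rpush f F hF (n + 1))
    (fun V : Y.affineOpens => V.1) (fun V => V.2) (iSup_affineOpens_eq_top Y) fun V => ?_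
  obtain ⟨e, -⟩ := Groth.Agent.Ega3B.RpushAff.exists_equiv f F hF V.2 (n + 1)
  have : Subsingleton (Coh.HHon X F (f ⁻¹ᵁ V.1) (n + 1)) :=
    HO.subsingleton_of_affine F hF (V.2.preimage f) n
  exact e.toEquiv.subsingleton

end K56.AffEdge
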