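import Groth.Agent.Coherent.K56.HOb

/-!
# The base change maps `CohCmp.GenBC.bc` on affine opens

For affine opens `V ⊆ S`, `W ⊆ S'` with `W ≤ g⁻¹ V` the base change map `g^* R^p f_* F ⟶ R^p f'_* g'^* F` is described
by the pullback map `H^p(f⁻¹ V, F) → H^p(f'⁻¹ W, g'^* F)`.
-/

set_option autoImplicit false

universe u

open CategoryTheory CategoryTheory.Limits AlgebraicGeometry TopologicalSpace Opposite

namespace K56.C4

open K56.SchMap Groth.Agent.CohqA.BaseChangeMod Groth.Agent.CohqA.PullbackUniv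
  Groth.Agent.CohqA.PullbackQCoh Groth.Agent.CohqA.PullbackAffine

section Alg

variable {A B : Type u} [CommRing A] [CommRing B] {M M₂ N N₂ : Type u} [AddCommGroup M]
  [Module A M] [AddCommGroup M₂] [Module A M₂] [AddCommGroup N] [Module B N] [AddCommGroup N₂] [Module B N₂]

theorem isBC_precomp {φ : A →+* B} {m : M →+ N} (h : IsBC φ m) (e : M₂ ≃ₗ[A] M) {m₂ : M₂ →+ N}
    (he : ∀ x, m (e x) = m₂ x) : IsBC φ m₂ := by
  refine ⟨fun r x => ?_, fun Q _ _ g hg => ?_⟩
  · rw [← he, ← he, e.map_smul, h.map_smul]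
  · obtain ⟨g', hg', hu⟩ := h.lift Q (g.comp e.symm.toAddEquiv.toAddMonoidHom) (fun r x => by
      change g (e.symm (r • x)) = φ r • g (e.symm x)
      rw [e.symm.map_smul, hg])
    refine ⟨g', fun x => ?_, fun g'' h'' => hu g'' fun x => ?_⟩
    · rw [← he, hg' (e x)]
      exact congrArg g (e.symm_apply_apply x)
    · change g'' (m x) = g (e.symm x)
      rw [← h'', ← he, e.apply_symm_apply]

theorem isBC_iff {φ : A →+* B} (eM : M →ₗ[A] M₂) (hM : Function.Bijective eM) (eN : N →ₗ[B] N₂)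
    (hN : Function.Bijective eN) (m : M →+ N) (m₂ : M₂ →+ N₂) (h : ∀ x, m₂ (eM x) = eN (m x)) :
    IsBC φ m ↔ IsBC φ m₂ := by
  let e : M ≃ₗ[A] M₂ := LinearEquiv.ofBijective eM hM
  let k : N ≃ₗ[B] N₂ := LinearEquiv.ofBijective eN hN
  constructor
  · intro h1
    have h2 : IsBC φ (k.toLinearMap.toAddMonoidHom.comp m) := h1.of_equiv k (fun x => rfl)
    refine isBC_precomp h2 e.symm fun x => ?_
    change eN (m (e.symm x)) = m₂ x
    rw [← h]
    exact congrArg m₂ (e.apply_symm_apply x)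
  · intro h1
    have h2 : IsBC φ (m₂.comp eM.toAddMonoidHom) := isBC_precomp h1 e (fun x => rfl)
    refine h2.of_equiv k.symm fun x => ?_
    change k.symm (m₂ (eM x)) = m x
    rw [h, LinearEquiv.symm_apply_eq]
    rfl

end Alg

variable {X S X' S' : Scheme.{u}} {f : X ⟶ S} {g : S' ⟶ S} {f' : X' ⟶ S'} {g' : X' ⟶ X}
  {w : g' ≫ f = f' ≫ g}

/-- Pullback `H^p(f⁻¹ V, F) → H^p(f'⁻¹ W, g'^* F)`. -/
noncomputable abbrev pullB (w : g' ≫ f = f' ≫ g) (F : X.Modules) {V : S.Opens} {W : S'.Opens}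
    (h : W ≤ g ⁻¹ᵁ V) (p : ℕ) :
    HOb f F V p →+ HOb f' ((Scheme.Modules.pullback g').obj F) W p :=
  HOb.pull f f' g g' w ((Scheme.Modules.pullbackPushforwardAdjunction g').unit.app F) h p

variable [HasInjectiveResolutions X.Modules] [HasInjectiveResolutions X'.Modules]
  {Δ : RDer.DerivedLES (Scheme.Modules.pushforward f)} {Δ' : RDer.DerivedLES (Scheme.Modules.pushforward f')}
  {E : CohCmp.SectCmp f Δ} {E' : CohCmp.SectCmp f' Δ'} (B : CohCmp.GenBC f g f' g' w E E')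

/-- The base change map on sections coming from classes. -/
theorem secMap_eps (F : X.Modules) {V : S.Opens} {W : S'.Opens} (h : W ≤ g ⁻¹ᵁ V) (p : ℕ)
    (x : HOb f F V p) :
    secMap g (B.φ p F) V W h (HOb.epsL f E F V p x) =
      HOb.epsL f' E' ((Scheme.Modules.pullback g').obj F) W p (pullB w F h p x) := by
  have h1 := B.compat V F p ((HO.of F (f ⁻¹ᵁ V) p).symm ((HOb.of f F V p).symm x))
  have h2 := Eps.eps_res f' E' h p ((Scheme.Modules.pullback g').obj F)
    (HO.of _ _ p (CohPull.pullOn g' (f ⁻¹ᵁ V) (f' ⁻¹ᵁ (g ⁻¹ᵁ V)) (CohCmp.sqLE f g f' g' w V) F p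
      ((HO.of F (f ⁻¹ᵁ V) p).symm ((HOb.of f F V p).symm x))))
  refine (congrArg (rs _ h) h1).trans (h2.symm.trans ?_)
  rw [HO.of_pullOn, HO.pullU]
  exact congrArg (Eps.eps f' E' W ((Scheme.Modules.pullback g').obj F) p)
    (HO.res_pull g' _ (CohCmp.sqLE f g f' g' w V) (f'.preimage_mono h) p _)

variable [QuasiCompact f] [QuasiSeparated f] [QuasiCompact f'] [QuasiSeparated f']
  (F : X.Modules) (hF : Coh.IsQCoh F)

include hF in
theorem isBC_iff_isBC {V : S.Opens} (hV : IsAffineOpen V) {W : S'.Opens} (hW : IsAffineOpen W)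
    (h : W ≤ g ⁻¹ᵁ V) (p : ℕ) :
    IsBC (g.appLE V W h).hom (pullB w F h p) ↔
      IsBC (g.appLE V W h).hom (secMap g (B.φ p F) V W h).hom := by
  have : F.IsQuasicoherent := hF
  exact isBC_iff (HOb.epsL f E F V p) (HOb.epsL_bijective f E F hF hV p)
    (HOb.epsL f' E' ((Scheme.Modules.pullback g').obj F) W p)
    (HOb.epsL_bijective f' E' _ (isQuasicoherent_pullback g' F) hW p) _ _
    (fun x => secMap_eps B F h p x)

include hF in
/-- The dictionary: the base change map is an isomorphism if the pullback maps on affine pairs are base changes. -/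
theorem isIso_bc (p : ℕ) (h : ∀ y : S', ∃ (V : S.Opens) (W : S'.Opens) (_ : IsAffineOpen V)
      (_ : IsAffineOpen W) (e : W ≤ g ⁻¹ᵁ V), y ∈ W ∧ IsBC (g.appLE V W e).hom (pullB w F e p)) :
    IsIso (B.bc p F) := by
  have h0 : F.IsQuasicoherent := hF
  have h1 : ((Coh.Rpush f p).obj F).IsQuasicoherent := Groth.Agent.CohqA.RelCoh.isQCoh_Rpush f F hF p
  have h2 : ((Coh.Rpush f' p).obj ((Scheme.Modules.pullback g').obj F)).IsQuasicoherent :=
    Groth.Agent.CohqA.RelCoh.isQCoh_Rpush f' _ (isQuasicoherent_pullback g' F) p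
  refine (isUniv_iff_isIso g (B.φ p F)).1 (isUniv_of_isBC_cover g (B.φ p F) fun y => ?_)
  obtain ⟨V, W, hV, hW, e, hy, hbc⟩ := h y
  exact ⟨V, W, hV, hW, e, hy, (isBC_iff_isBC B F hF hV hW e p).1 hbc⟩

include hF in
/-- Conversely. -/
theorem isBC_of_isIso (p : ℕ) (h : IsIso (B.bc p F)) {V : S.Opens} (hV : IsAffineOpen V)
    {W : S'.Opens} (hW : IsAffineOpen W) (e : W ≤ g ⁻¹ᵁ V) :
    IsBC (g.appLE V W e).hom (pullB w F e p) := by
  have h1 : ((Coh.Rpush f p).obj F).IsQuasicoherent := Groth.Agent.CohqA.RelCoh.isQCoh_Rpush f F hF p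
  exact (isBC_iff_isBC B F hF hV hW e p).2
    (Groth.Agent.CohqA.PullbackSections.isBC_secMap g (B.φ p F) ((isUniv_iff_isIso g (B.φ p F)).2 h) hV hW e)

end K56.C4
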