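import Groth.Agent.Coherent.K56.Eps2
import Groth.Agent.Cohder.RDAcyc

/-!
# Edge maps over opens
-/

set_option autoImplicit false

universe u

open CategoryTheory CategoryTheory.Limits AlgebraicGeometry TopologicalSpace Opposite

namespace K56.Edge

open K56.SchMap K56.Sec Groth.Agent.Cohder.RDAcyc

variable {X Y : Scheme.{u}} (f : X ⟶ Y)

/-- The edge map over `V`. -/
noncomputable def edge (G : X.Modules) (V : Y.Opens) (n : ℕ) :
    HO ((Scheme.Modules.pushforward f).obj G) V n →+ HO G (f ⁻¹ᵁ V) n :=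
  HO.pull f (𝟙 ((Scheme.Modules.pushforward f).obj G)) (le_refl (f ⁻¹ᵁ V)) n

theorem edge_sec (G : X.Modules) (V : Y.Opens) (s : Γ(G, f ⁻¹ᵁ V)) :
    edge f G V 0 (HO.sec ((Scheme.Modules.pushforward f).obj G) V s) = HO.sec G (f ⁻¹ᵁ V) s := by
  refine (HO.pull_sec f (𝟙 ((Scheme.Modules.pushforward f).obj G)) (le_refl (f ⁻¹ᵁ V)) s).trans ?_
  exact congrArg (HO.sec G (f ⁻¹ᵁ V)) (rs_self G (le_refl (f ⁻¹ᵁ V)) s)

theorem edge_map {G G' : X.Modules} (a : G ⟶ G') (V : Y.Opens) (n : ℕ)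
    (x : HO ((Scheme.Modules.pushforward f).obj G) V n) :
    edge f G' V n (HO.map ((Scheme.Modules.pushforward f).map a) V n x) =
      HO.map a (f ⁻¹ᵁ V) n (edge f G V n x) := by
  refine (HO.pull_map_left f ((Scheme.Modules.pushforward f).map a) (𝟙 _) (le_refl (f ⁻¹ᵁ V)) n x).symm.trans ?_
  refine Eq.trans ?_ (HO.pull_map_right f (𝟙 _) a (le_refl (f ⁻¹ᵁ V)) n x)
  rw [Category.id_comp, Category.comp_id]

theorem edge_δ {S : ShortComplex X.Modules} (hS : S.ShortExact)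
    (hS' : (S.map (Scheme.Modules.pushforward f)).ShortExact) (V : Y.Opens) (n : ℕ)
    (x : HO ((Scheme.Modules.pushforward f).obj S.X₃) V n) :
    edge f S.X₁ V (n + 1) (HO.δ hS' V n x) = HO.δ hS (f ⁻¹ᵁ V) n (edge f S.X₃ V n x) :=
  HO.pull_δ f (le_refl (f ⁻¹ᵁ V)) hS' hS (𝟙 _) (𝟙 _) (𝟙 _)
    ((Category.comp_id _).trans (Category.id_comp _).symm)
    ((Category.comp_id _).trans (Category.id_comp _).symm) n x

theorem edge_res (G : X.Modules) {V W : Y.Opens} (h : W ≤ V) (n : ℕ)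
    (x : HO ((Scheme.Modules.pushforward f).obj G) V n) :
    edge f G W n (HO.res _ h n x) = HO.res G (f.preimage_mono h) n (edge f G V n x) :=
  (HO.pull_res f (𝟙 _) h (le_refl (f ⁻¹ᵁ W)) n x).trans
    (HO.res_pull f (𝟙 _) (le_refl (f ⁻¹ᵁ V)) (f.preimage_mono h) n x).symm

/-- If `G` is `f_*`-acyclic then the edge maps are bijective. -/
theorem edge_bijective [HasInjectiveResolutions X.Modules] (V : Y.Opens) (n : ℕ) :
    ∀ G : X.Modules, IsAcyc (Scheme.Modules.pushforward f) G →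
      Function.Bijective (edge f G V n) := by
  have : PreservesFiniteLimits (Scheme.Modules.pushforward f) := inferInstance
  induction n with
  | zero =>
    intro G _
    refine ⟨(injective_iff_map_eq_zero _).2 fun x hx => ?_, fun x => ?_⟩
    · obtain ⟨s, rfl⟩ := (HO.sec _ V).surjective x
      rw [edge_sec] at hx
      have : s = 0 := (HO.sec G (f ⁻¹ᵁ V)).injective (hx.trans (map_zero _).symm)
      rw [this, map_zero]
    · obtain ⟨s, rfl⟩ := (HO.sec _ _).surjective x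
      exact ⟨_, edge_sec f G V s⟩
  | succ n ih =>
    intro G hG
    obtain ⟨S, hS, hI, rfl⟩ := HO.exists_ses G
    have hS' : (S.map (Scheme.Modules.pushforward f)).ShortExact := map_shortExact _ hS (hG 1 one_pos)
    have hI' : IsAcyc (Scheme.Modules.pushforward f) S.X₂ := isAcyc_injective _ _
    have hQ : IsAcyc (Scheme.Modules.pushforward f) S.X₃ := isAcyc_X₃ _ hS hG hI'
    have i2 := ih S.X₂ hI'
    have i3 := ih S.X₃ hQ
    have hz : Subsingleton (HO ((Scheme.Modules.pushforward f).obj S.X₂) V (n + 1)) :=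
      HO.subsingleton_of_isFlasque _ (Eps.isFlasque_push_injective f S.X₂) V n
    refine ⟨(injective_iff_map_eq_zero _).2 fun x hx => ?_, fun z => ?_⟩
    · obtain ⟨y, rfl⟩ := HO.exists_δ_eq hS' V n x (Subsingleton.elim (α := HO ((Scheme.Modules.pushforward f).obj S.X₂) V (n + 1)) _ _)
      rw [edge_δ f hS hS'] at hx
      obtain ⟨w, hw⟩ := HO.exists_map_g_eq hS (f ⁻¹ᵁ V) n _ hx
      obtain ⟨w', rfl⟩ := i2.2 w
      rw [← edge_map] at hw
      rw [← i3.1 hw]
      exact HO.δ_map_g hS' V n w'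
    · obtain ⟨y, rfl⟩ := Eps.exists_δ hS hI (f ⁻¹ᵁ V) n z
      obtain ⟨y', rfl⟩ := i3.2 y
      exact ⟨HO.δ hS' V n y', edge_δ f hS hS' V n y'⟩

end K56.Edge
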