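import Groth.Agent.Coherent.K56.SchMap
import Groth.Agent.Dix.IdealModSec
import Groth.Agent.Dcoh.Restrict

/-!
# Sections of O-modules: local lifting along epimorphisms and exact sequences
-/

set_option autoImplicit false

universe u

open CategoryTheory CategoryTheory.Limits AlgebraicGeometry TopologicalSpace Opposite

namespace K56.Sec

open K56.SchMap

variable {X : Scheme.{u}}

theorem exists_local_of_epi {M N : X.Modules} (g : M ⟶ N) [Epi g] {U : X.Opens} (s : Γ(N, U))
    (x : X) (hx : x ∈ U) : ∃ (V : X.Opens) (h : V ≤ U), x ∈ V ∧ ∃ t : Γ(M, V), g.app V t = rs N h s := by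
  obtain ⟨V, h, t, hxV, ht⟩ := Groth.Agent.Dcoh.Restrict.exists_local_preimage g U s x hx
  exact ⟨V, h, hxV, t, ht⟩

theorem comp_app {M N P : X.Modules} (a : M ⟶ N) (b : N ⟶ P) (U : X.Opens) (s : Γ(M, U)) :
    (a ≫ b).app U s = b.app U (a.app U s) := rfl

theorem app_zero_of {M N : X.Modules} {a : M ⟶ N} (h : a = 0) (U : X.Opens) (s : Γ(M, U)) :
    a.app U s = 0 := by
  rw [h]
  rfl

/-- Sections killed by a map come from its kernel. -/
theorem exists_kernel {M N : X.Modules} (g : M ⟶ N) {U : X.Opens} (s : Γ(M, U)) (hs : g.app U s = 0) :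
    ∃ t : Γ(kernel g, U), (kernel.ι g).app U t = s :=
  Groth.Agent.Dix.IdealModSec.exists_kernel_lift g U s hs

theorem injective_of_mono {M N : X.Modules} (φ : M ⟶ N) [Mono φ] (U : X.Opens) :
    Function.Injective (φ.app U) :=
  Groth.Agent.Dix.IdealModSec.app_injective_of_mono φ U

/-- Local lifting in an exact sequence. -/
theorem exists_local_of_exact {S : ShortComplex X.Modules} (hS : S.Exact) {U : X.Opens}
    (s : Γ(S.X₂, U)) (hs : S.g.app U s = 0) (x : X) (hx : x ∈ U) :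
    ∃ (V : X.Opens) (h : V ≤ U), x ∈ V ∧ ∃ t : Γ(S.X₁, V), S.f.app V t = rs S.X₂ h s := by
  obtain ⟨k, rfl⟩ := exists_kernel S.g s hs
  have := hS.epi_kernelLift
  obtain ⟨V, h, hxV, t, ht⟩ := exists_local_of_epi (kernel.lift S.g S.f S.zero) k x hx
  refine ⟨V, h, hxV, t, ?_⟩
  have e := congrArg (fun φ => Scheme.Modules.Hom.app φ V t) (kernel.lift_ι S.g S.f S.zero)
  refine e.symm.trans ?_
  change (kernel.ι S.g).app V ((kernel.lift S.g S.f S.zero).app V t) = _
  rw [ht, app_rs]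

theorem bijective_of_isIso {M N : X.Modules} (φ : M ⟶ N) [IsIso φ] (U : X.Opens) :
    Function.Bijective (φ.app U) := by
  refine ⟨injective_of_mono φ U, fun s => ⟨(inv φ).app U s, ?_⟩⟩
  have e := congrArg (fun ψ => Scheme.Modules.Hom.app ψ U s) (IsIso.inv_hom_id φ)
  exact e

/-- A section which vanishes locally vanishes. -/
theorem eq_zero_of_locally {M : X.Modules} {W : X.Opens} (s : Γ(M, W))
    (h : ∀ y ∈ W, ∃ (D : X.Opens) (hD : D ≤ W), y ∈ D ∧ rs M hD s = 0) : s = 0 := by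
  choose! D hD hy h0 using h
  refine TopCat.Sheaf.eq_of_locally_eq' ⟨_, M.isSheaf⟩ (fun y : W => D y.1) W
    (fun y => homOfLE (hD y.1 y.2)) (fun y hyW => Opens.mem_iSup.2 ⟨⟨y, hyW⟩, hy y hyW⟩) s 0
    fun y => ?_
  refine (h0 y.1 y.2).trans (map_zero _).symm

theorem subsingleton_sections_of_isZero {M : X.Modules} (h : IsZero M) (V : X.Opens) :
    Subsingleton Γ(M, V) := by
  have h1 : ∀ x : Γ(M, V), x = 0 := fun x => by
    change (𝟙 M : M ⟶ M).app V x = 0
    rw [h.eq_of_src (𝟙 M) 0]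
    rfl
  exact ⟨fun s t => by rw [h1 s, h1 t]⟩

end K56.Sec
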