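import Groth.Agent.Coherent.K56.HORes
import Groth.Agent.Coherent.K56.Sec

/-!
# Dimension shifting along a four-term exact sequence
-/

set_option autoImplicit false

universe u

open CategoryTheory CategoryTheory.Limits AlgebraicGeometry TopologicalSpace Opposite

namespace K56.Shift

open K56.SchMap K56.Sec

variable {X : Scheme.{u}}

theorem subsingleton_of_zero {A : Type*} [AddGroup A] (h : ∀ a : A, a = 0) : Subsingleton A :=
  ⟨fun a b => by rw [h a, h b]⟩

/-- For `0 ⟶ A ⟶ B ⟶ C ⟶ D ⟶ 0` exact with `A, B, D` acyclic on `V`. -/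
theorem shift {A B C D : X.Modules} (f : A ⟶ B) (g : B ⟶ C) (h : C ⟶ D) (w₁ : f ≫ g = 0)
    (w₂ : g ≫ h = 0) (h₁ : (ShortComplex.mk f g w₁).Exact) (h₂ : (ShortComplex.mk g h w₂).Exact)
    [Mono f] [Epi h] (V : X.Opens)
    (hA : ∀ m, Subsingleton (HO A V (m + 1))) (hB : ∀ m, Subsingleton (HO B V (m + 1)))
    (hD : ∀ m, Subsingleton (HO D V (m + 1))) :
    (∀ m, Subsingleton (HO C V (m + 1))) ∧ Function.Surjective (h.app V) ∧
      ∀ c : Γ(C, V), h.app V c = 0 → ∃ b : Γ(B, V), g.app V b = c := by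
  let K := kernel h
  let p : B ⟶ K := kernel.lift h g w₂
  have hp : Epi p := h₂.epi_kernelLift
  have hpι : p ≫ kernel.ι h = g := kernel.lift_ι h g w₂
  have wfp : f ≫ p = 0 := by
    rw [← cancel_mono (kernel.ι h), Category.assoc, hpι, w₁, zero_comp]
  have e1 : (ShortComplex.mk f p wfp).Exact := by
    rw [← ShortComplex.exact_iff_of_epi_of_isIso_of_mono
      (S₁ := ShortComplex.mk f p wfp) (S₂ := ShortComplex.mk f g w₁)
      { τ₁ := 𝟙 _, τ₂ := 𝟙 _, τ₃ := kernel.ι h, comm₁₂ := by simp, comm₂₃ := by simp [hpι] }] at h₁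
    exact h₁
  let T₁ : ShortComplex X.Modules := ShortComplex.mk f p wfp
  have hT₁ : T₁.ShortExact := ShortComplex.ShortExact.mk' e1 ‹_› hp
  let T₂ : ShortComplex X.Modules := ShortComplex.mk (kernel.ι h) h (kernel.condition h)
  have hT₂ : T₂.ShortExact := ShortComplex.ShortExact.mk' (ShortComplex.exact_kernel h) inferInstance ‹_›
  have hK : ∀ m (x : HO K V (m + 1)), x = 0 := fun m x => by
    have := hA (m + 1)
    have := hB m
    obtain ⟨y, hy⟩ := HO.exists_map_g_eq hT₁ V (m + 1) x (Subsingleton.elim (α := HO A V (m + 1 + 1)) _ _)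
    rw [← hy, Subsingleton.elim (α := HO B V (m + 1)) y 0, map_zero]
  refine ⟨fun m => subsingleton_of_zero fun x => ?_, fun d => ?_, fun c hc => ?_⟩
  · have := hD m
    obtain ⟨y, hy⟩ := HO.exists_map_f_eq hT₂ V (m + 1) x (Subsingleton.elim (α := HO D V (m + 1)) _ _)
    rw [← hy, hK m y, map_zero]
  · obtain ⟨y, hy⟩ := HO.exists_map_g_eq hT₂ V 0 (HO.sec D V d) (hK 0 _)
    obtain ⟨c, rfl⟩ := (HO.sec C V).surjective y
    refine ⟨c, (HO.sec D V).injective ?_⟩
    rw [← hy, ← HO.map_sec]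
  · obtain ⟨k, rfl⟩ := exists_kernel h c hc
    have := hA 0
    obtain ⟨y, hy⟩ := HO.exists_map_g_eq hT₁ V 0 (HO.sec K V k) (Subsingleton.elim (α := HO A V (0 + 1)) _ _)
    obtain ⟨b, rfl⟩ := (HO.sec B V).surjective y
    refine ⟨b, ?_⟩
    have hb : p.app V b = k := (HO.sec K V).injective (by rw [← hy, ← HO.map_sec])
    rw [← hb]
    have e := congrArg (fun φ => Scheme.Modules.Hom.app φ V b) hpι
    exact e.symm

end K56.Shift
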