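import Groth.Agent.Coherent.K56.HOSmul
import Groth.Agent.Coherent.K56.Shift

/-!
# The comparison maps `CohCmp.SectCmp` on the sealed groups `HO`
-/

set_option autoImplicit false

universe u

open CategoryTheory CategoryTheory.Limits AlgebraicGeometry TopologicalSpace Opposite

namespace K56.Eps

open K56.SchMap K56.Sec

variable {X Y : Scheme.{u}} (f : X ⟶ Y) [HasInjectiveResolutions X.Modules]
  {Δ : RDer.DerivedLES (Scheme.Modules.pushforward f)} (E : CohCmp.SectCmp f Δ)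

/-- The comparison map on the sealed groups. -/
noncomputable def eps (V : Y.Opens) (F : X.Modules) (n : ℕ) :
    HO F (f ⁻¹ᵁ V) n →+ Γ((Coh.Rpush f n).obj F, V) :=
  (show Coh.HHon X F (f ⁻¹ᵁ V) n →+ Γ((Coh.Rpush f n).obj F, V) from E.ε V F n).comp
    (HO.of F (f ⁻¹ᵁ V) n).symm.toAddMonoidHom

theorem eps_of (V : Y.Opens) (F : X.Modules) (n : ℕ) (x : Coh.HHon X F (f ⁻¹ᵁ V) n) :
    eps f E V F n (HO.of F (f ⁻¹ᵁ V) n x) = E.ε V F n x := rfl

/-- `f_* F ≅ R^0 f_* F` -/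
noncomputable abbrev r0 (F : X.Modules) :
    (Scheme.Modules.pushforward f).obj F ⟶ (Coh.Rpush f 0).obj F :=
  (Scheme.Modules.pushforward f).toRightDerivedZero.app F

instance (F : X.Modules) : IsIso (r0 f F) := by
  have : PreservesFiniteLimits (Scheme.Modules.pushforward f) := inferInstance
  infer_instance

theorem eps_sec (V : Y.Opens) (F : X.Modules) (s : Γ(F, f ⁻¹ᵁ V)) :
    eps f E V F 0 (HO.sec F (f ⁻¹ᵁ V) s) = (r0 f F).app V s :=
  E.zero V F s

theorem eps_map (V : Y.Opens) {F G : X.Modules} (a : F ⟶ G) (n : ℕ) (x : HO F (f ⁻¹ᵁ V) n) :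
    eps f E V G n (HO.map a (f ⁻¹ᵁ V) n x) = ((Coh.Rpush f n).map a).app V (eps f E V F n x) :=
  E.natural V a n ((HO.of F (f ⁻¹ᵁ V) n).symm x)

theorem eps_δ (V : Y.Opens) {S : ShortComplex X.Modules} (hS : S.ShortExact) (n : ℕ)
    (x : HO S.X₃ (f ⁻¹ᵁ V) n) :
    eps f E V S.X₁ (n + 1) (HO.δ hS (f ⁻¹ᵁ V) n x) =
      (Δ.δ S hS n (n + 1) rfl).app V (eps f E V S.X₃ n x) :=
  E.delta V S hS (shortExact_toAbOn hS (f ⁻¹ᵁ V)) n ((HO.of S.X₃ (f ⁻¹ᵁ V) n).symm x)

/-- Dimension shifting: every positive-degree class is a connecting class. -/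
theorem exists_shift (F : X.Modules) : ∃ S : ShortComplex X.Modules, S.ShortExact ∧
    Injective S.X₂ ∧ S.X₁ = F := HO.exists_ses F

omit [HasInjectiveResolutions X.Modules] in
theorem exists_δ {S : ShortComplex X.Modules} (hS : S.ShortExact) (hI : Injective S.X₂)
    (U : X.Opens) (n : ℕ) (x : HO S.X₁ U (n + 1)) : ∃ y, HO.δ hS U n y = x := by
  have := HO.subsingleton_of_injective S.X₂ U n
  exact HO.exists_δ_eq hS U n x (Subsingleton.elim _ _)

theorem isZero_Rpush (I : X.Modules) [Injective I] (n : ℕ) : IsZero ((Coh.Rpush f (n + 1)).obj I) :=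
  (Scheme.Modules.pushforward f).isZero_rightDerived_obj_injective_succ n I

variable (Δ) in
include Δ in
theorem epi_δ {S : ShortComplex X.Modules} (hS : S.ShortExact) [Injective S.X₂] (n : ℕ) :
    Epi (Δ.δ S hS n (n + 1) rfl) :=
  (Δ.exact₁ S hS n (n + 1) rfl).epi_f ((isZero_Rpush f S.X₂ n).eq_of_tgt _ _)

/-- `ε` commutes with restriction to smaller opens of the base. -/
theorem eps_res {V W : Y.Opens} (h : W ≤ V) (n : ℕ) : ∀ (F : X.Modules) (x : HO F (f ⁻¹ᵁ V) n),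
    eps f E W F n (HO.res F (f.preimage_mono h) n x) =
      rs ((Coh.Rpush f n).obj F) h (eps f E V F n x) := by
  induction n with
  | zero =>
    intro F x
    obtain ⟨s, rfl⟩ := (HO.sec F (f ⁻¹ᵁ V)).surjective x
    rw [HO.res_sec, eps_sec, eps_sec, ← app_rs]
    rfl
  | succ n ih =>
    intro F x
    obtain ⟨S, hS, hI, rfl⟩ := exists_shift F
    obtain ⟨y, rfl⟩ := exists_δ hS hI (f ⁻¹ᵁ V) n x
    rw [HO.res_δ, eps_δ, eps_δ, ih, ← app_rs]

theorem eps_zero_bijective (V : Y.Opens) (F : X.Modules) : Function.Bijective (eps f E V F 0) := by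
  have h : ⇑(eps f E V F 0) ∘ (HO.sec F (f ⁻¹ᵁ V)) = ⇑((r0 f F).app V) := funext fun s => eps_sec f E V F s
  have h2 : Function.Bijective (⇑(eps f E V F 0) ∘ (HO.sec F (f ⁻¹ᵁ V))) := by
    rw [h]
    exact bijective_of_isIso (r0 f F) V
  exact (Function.Bijective.of_comp_iff _ (HO.sec F (f ⁻¹ᵁ V)).bijective).1 h2

/-- `ε` is locally surjective. -/
theorem locally_surjective (n : ℕ) : ∀ (F : X.Modules) (V : Y.Opens)
    (t : Γ((Coh.Rpush f n).obj F, V)) (y : Y), y ∈ V →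
    ∃ (W : Y.Opens) (hWV : W ≤ V), y ∈ W ∧ ∃ x : HO F (f ⁻¹ᵁ W) n,
      eps f E W F n x = rs ((Coh.Rpush f n).obj F) hWV t := by
  induction n with
  | zero =>
    intro F V t y hy
    obtain ⟨x, hx⟩ := (eps_zero_bijective f E V F).2 t
    exact ⟨V, le_rfl, hy, x, hx.trans (rs_self _ _ _).symm⟩
  | succ n ih =>
    intro F V t y hy
    obtain ⟨S, hS, hI, rfl⟩ := exists_shift F
    have := epi_δ f Δ hS n
    obtain ⟨V', hV', hyV', t', ht'⟩ := exists_local_of_epi (Δ.δ S hS n (n + 1) rfl) t y hy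
    obtain ⟨W, hW, hyW, x, hx⟩ := ih S.X₃ V' t' y hyV'
    refine ⟨W, hW.trans hV', hyW, HO.δ hS _ n x, ?_⟩
    rw [eps_δ, hx, app_rs, ht', rs_rs]

/-- `ε` is locally injective. -/
theorem locally_injective (n : ℕ) : ∀ (F : X.Modules) (V : Y.Opens)
    (x : HO F (f ⁻¹ᵁ V) n), eps f E V F n x = 0 → ∀ y : Y, y ∈ V →
    ∃ (W : Y.Opens) (hWV : W ≤ V), y ∈ W ∧ HO.res F (f.preimage_mono hWV) n x = 0 := by
  induction n with
  | zero =>
    intro F V x hx y hy
    refine ⟨V, le_rfl, hy, ?_⟩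
    rw [(injective_iff_map_eq_zero _).1 (eps_zero_bijective f E V F).1 x hx, map_zero]
  | succ n ih =>
    intro F V x hx y hy
    obtain ⟨S, hS, hI, rfl⟩ := exists_shift F
    obtain ⟨z, rfl⟩ := exists_δ hS hI (f ⁻¹ᵁ V) n x
    rw [eps_δ] at hx
    obtain ⟨V', hV', hyV', t, ht⟩ := exists_local_of_exact (Δ.exact₃ S hS n (n + 1) rfl) _ hx y hy
    obtain ⟨W, hW, hyW, w, hw⟩ := locally_surjective f E n S.X₂ V' t y hyV'
    have h1 : eps f E W S.X₃ n (HO.res S.X₃ (f.preimage_mono (hW.trans hV')) n z -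
        HO.map S.g (f ⁻¹ᵁ W) n w) = 0 := by
      rw [map_sub, eps_map, hw, eps_res f E (hW.trans hV'), app_rs]
      have ht2 : ((Coh.Rpush f n).map S.g).app V' t = rs _ hV' (eps f E V S.X₃ n z) := ht
      rw [ht2, rs_rs, sub_self]
    obtain ⟨W', hW', hyW', h2⟩ := ih S.X₃ W _ h1 y hyW
    refine ⟨W', hW'.trans (hW.trans hV'), hyW', ?_⟩
    rw [map_sub, sub_eq_zero, HO.res_res, HO.res_map] at h2
    rw [HO.res_δ]
    refine (congrArg (HO.δ hS (f ⁻¹ᵁ W') n) h2).trans ?_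
    exact HO.δ_map_g hS _ n _

end K56.Eps
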