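import Groth.Agent.Coherent.K56.Eps
import Groth.Agent.Ega3B.RpushAff

/-!
# The comparison maps are bijective over opens on which the higher direct images are acyclic
-/

set_option autoImplicit false

universe u

open CategoryTheory CategoryTheory.Limits AlgebraicGeometry TopologicalSpace Opposite

namespace K56.HO

variable {X : Scheme.{u}}

theorem subsingleton_of_iso {F G : X.Modules} (e : F ≅ G) {U : X.Opens} {n : ℕ}
    (h : Subsingleton (HO F U n)) : Subsingleton (HO G U n) := by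
  refine Shift.subsingleton_of_zero fun x => ?_
  have h1 : map (e.inv ≫ e.hom) U n x = x := by
    rw [e.inv_hom_id, map_id]
  rw [← h1, map_comp, Subsingleton.elim (map e.inv U n x) 0, map_zero]

theorem subsingleton_of_isFlasque (G : X.Modules)
    (hG : TopCat.Sheaf.IsFlasque (X := X.toTopCat) (Coh.toAb G)) (U : X.Opens) (n : ℕ) :
    Subsingleton (HO G U (n + 1)) :=
  Groth.Agent.Ega3B.RpushCmp.subsingleton_HHon_of_isFlasque G hG U (n + 1) (Nat.succ_pos n)

theorem subsingleton_of_affine (M : X.Modules) (hM : Coh.IsQCoh M) {V : X.Opens}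
    (hV : IsAffineOpen V) (m : ℕ) : Subsingleton (HO M V (m + 1)) :=
  Groth.Agent.Ega3B.RpushAff.subsingleton_HHon M hM hV (m + 1) (Nat.succ_pos m)

end K56.HO

namespace K56.Eps

open K56.SchMap K56.Sec

variable {X Y : Scheme.{u}} (f : X ⟶ Y) [HasInjectiveResolutions X.Modules]
  {Δ : RDer.DerivedLES (Scheme.Modules.pushforward f)} (E : CohCmp.SectCmp f Δ)

omit [HasInjectiveResolutions X.Modules] in
theorem isFlasque_push_injective (I : X.Modules) [Injective I] :
    TopCat.Sheaf.IsFlasque (X := Y.toTopCat) (Coh.toAb ((Scheme.Modules.pushforward f).obj I)) :=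
  Groth.Agent.Ega3B.RpushCmp.isFlasque_push f _ (Groth.Agent.Ega3B.InjMod.isFlasque_of_injective I)

theorem mono_r0_map {S : ShortComplex X.Modules} (hS : S.ShortExact) :
    Mono ((Coh.Rpush f 0).map S.f) := by
  have : PreservesFiniteLimits (Scheme.Modules.pushforward f) := inferInstance
  have := hS.mono_f
  have h : (Scheme.Modules.pushforward f).map S.f ≫ r0 f S.X₂ = r0 f S.X₁ ≫ (Coh.Rpush f 0).map S.f :=
    (Scheme.Modules.pushforward f).toRightDerivedZero.naturality S.f
  have h2 : (Coh.Rpush f 0).map S.f = inv (r0 f S.X₁) ≫ (Scheme.Modules.pushforward f).map S.f ≫ r0 f S.X₂ := by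
    rw [h, IsIso.inv_hom_id_assoc]
  rw [h2]
  infer_instance

variable (Δ) in
/-- Dimension shifting for the acyclicity hypothesis. -/
theorem shift_acyclic {S : ShortComplex X.Modules} (hS : S.ShortExact) [Injective S.X₂] (V : Y.Opens)
    (hH : ∀ k m : ℕ, Subsingleton (HO ((Coh.Rpush f k).obj S.X₁) V (m + 1))) :
    (∀ k m : ℕ, Subsingleton (HO ((Coh.Rpush f k).obj S.X₃) V (m + 1))) ∧
      ∀ n, Function.Surjective ((Δ.δ S hS n (n + 1) rfl).app V) ∧
        ∀ c : Γ((Coh.Rpush f n).obj S.X₃, V), (Δ.δ S hS n (n + 1) rfl).app V c = 0 →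
          ∃ b : Γ((Coh.Rpush f n).obj S.X₂, V), ((Coh.Rpush f n).map S.g).app V b = c := by
  have hB : ∀ m : ℕ, Subsingleton (HO ((Coh.Rpush f 0).obj S.X₂) V (m + 1)) := fun m =>
    HO.subsingleton_of_iso (asIso (r0 f S.X₂)) (HO.subsingleton_of_isFlasque _ (isFlasque_push_injective f S.X₂) V m)
  have := mono_r0_map f hS
  have := epi_δ f Δ hS 0
  have h0 := Shift.shift ((Coh.Rpush f 0).map S.f) ((Coh.Rpush f 0).map S.g) (Δ.δ S hS 0 1 rfl)
    (by rw [← Functor.map_comp, S.zero, Functor.map_zero]) (Δ.comp_δ S hS 0 1 rfl) (Δ.exact₂ S hS 0)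
    (Δ.exact₃ S hS 0 1 rfl) V (hH 0) hB (hH 1)
  have hiso : ∀ n, IsIso (Δ.δ S hS (n + 1) (n + 2) rfl) := fun n => by
    have := epi_δ f Δ hS (n + 1)
    have : Mono (Δ.δ S hS (n + 1) (n + 2) rfl) :=
      (Δ.exact₃ S hS (n + 1) (n + 2) rfl).mono_g ((isZero_Rpush f S.X₂ n).eq_of_src _ _)
    exact isIso_of_mono_of_epi _
  refine ⟨fun k m => ?_, fun n => ?_⟩
  · cases k with
    | zero => exact h0.1 m
    | succ k =>
      have := hiso k
      exact HO.subsingleton_of_iso (asIso (Δ.δ S hS (k + 1) (k + 2) rfl)).symm (hH (k + 2) m)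
  · cases n with
    | zero => exact h0.2
    | succ n =>
      have := hiso n
      have hb := bijective_of_isIso (Δ.δ S hS (n + 1) (n + 2) rfl) V
      refine ⟨hb.2, fun c hc => ⟨0, ?_⟩⟩
      rw [map_zero, (injective_iff_map_eq_zero _).1 hb.1 c hc]

/-- `ε` is bijective over an open on which all `R^k f_* F` are acyclic. -/
theorem bijective_of_acyclic (V : Y.Opens) (n : ℕ) : ∀ (F : X.Modules),
    (∀ k m : ℕ, Subsingleton (HO ((Coh.Rpush f k).obj F) V (m + 1))) →
    Function.Bijective (eps f E V F n) := by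
  induction n with
  | zero => exact fun F _ => eps_zero_bijective f E V F
  | succ n ih =>
    intro F hF
    obtain ⟨S, hS, hI, rfl⟩ := exists_shift F
    obtain ⟨h1, h2⟩ := shift_acyclic f Δ hS V hF
    have h3 := ih S.X₃ h1
    refine ⟨(injective_iff_map_eq_zero _).2 fun x hx => ?_, fun t => ?_⟩
    · obtain ⟨z, rfl⟩ := exists_δ hS hI (f ⁻¹ᵁ V) n x
      rw [eps_δ] at hx
      obtain ⟨b, hb⟩ := (h2 n).2 _ hx
      -- `b` comes from a class
      have hI2 : ∃ w, eps f E V S.X₂ n w = b := by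
        cases n with
        | zero => exact (eps_zero_bijective f E V S.X₂).2 b
        | succ n =>
          have := subsingleton_sections_of_isZero (isZero_Rpush f S.X₂ n) V
          exact ⟨0, Subsingleton.elim _ _⟩
      obtain ⟨w, rfl⟩ := hI2
      rw [← eps_map] at hb
      have h4 := h3.1 hb
      rw [← h4]
      exact HO.δ_map_g hS _ n _
    · obtain ⟨t', rfl⟩ := (h2 n).1 t
      obtain ⟨y, rfl⟩ := h3.2 t'
      exact ⟨HO.δ hS _ n y, eps_δ f E V hS n y⟩

/-- `ε` is bijective over affine opens, for quasi-coherent modules and `f` qcqs. -/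
theorem bijective_of_affine [QuasiCompact f] [QuasiSeparated f] (F : X.Modules) (hF : Coh.IsQCoh F)
    {V : Y.Opens} (hV : IsAffineOpen V) (n : ℕ) : Function.Bijective (eps f E V F n) :=
  bijective_of_acyclic f E V n F fun k m => HO.subsingleton_of_affine _
    (Groth.Agent.CohqA.RelCoh.isQCoh_Rpush f F hF k) hV m

theorem app_smul' {M N : Y.Modules} (a : M ⟶ N) (V : Y.Opens) (r : Γ(Y, V)) (s : Γ(M, V)) :
    a.app V (r • s) = r • a.app V s := Scheme.Modules.Hom.app_smul a r s

/-- `ε` is linear. -/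
theorem eps_smul (V : Y.Opens) (n : ℕ) : ∀ (F : X.Modules) (r : Γ(Y, V)) (x : HO F (f ⁻¹ᵁ V) n),
    eps f E V F n (f.app V r • x) = r • eps f E V F n x := by
  induction n with
  | zero =>
    intro F r x
    obtain ⟨s, rfl⟩ := (HO.sec F (f ⁻¹ᵁ V)).surjective x
    rw [← HO.sec_smul, eps_sec, eps_sec]
    exact app_smul' (r0 f F) V r s
  | succ n ih =>
    intro F r x
    obtain ⟨S, hS, hI, rfl⟩ := exists_shift F
    obtain ⟨y, rfl⟩ := exists_δ hS hI (f ⁻¹ᵁ V) n x
    rw [← HO.δ_smul, eps_δ, eps_δ, ih]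
    exact app_smul' _ V r _

end K56.Eps
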