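import Groth.Agent.Coherent.K56.SchMap3
import Groth.Agent.Ega3B.RpushCmp

/-!
# Sealed interface to `Coh.HHon X F U n`

`HO F U n` is `Coh.HHon X F U n` behind a definition (this keeps kernel checking times small), with
* `HO.map`, `HO.δ`, `HO.sec` (degree `0`), long exact sequence lemmas;
* `HO.pull g ψ h n : HO F U n →+ HO G U' n` for `ψ : F ⟶ g_* G`, `U' ≤ g⁻¹ U`; `HO.res`;
* the `Γ(X, U)`-module structure.
The lemmas `*_eq` translate back to the prelude.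
-/

set_option autoImplicit false

universe u

open CategoryTheory CategoryTheory.Limits AlgebraicGeometry TopologicalSpace Opposite

namespace K56

open K56.PMap K56.SchMap

/-- `Coh.HHon X F U n`, sealed. -/
def HO {X : Scheme.{u}} (F : X.Modules) (U : X.Opens) (n : ℕ) : Type u := Coh.HHon X F U n

noncomputable def HO.acg {X : Scheme.{u}} (F : X.Modules) (U : X.Opens) (n : ℕ) :
    AddCommGroup (HO F U n) := (inferInstance : AddCommGroup (Coh.HHon X F U n))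

attribute [instance] HO.acg

/-- Functions on `U` act on `H^n(U, F|_U)`. -/
noncomputable instance HO.instModule {X : Scheme.{u}} (F : X.Modules) (U : X.Opens) (n : ℕ) :
    Module Γ(X, U) (HO F U n) :=
  Module.compHom (Coh.HHon X F U n) (show Γ(X, U) →+* Coh.Γtop U.toScheme from U.topIso.inv.hom)

namespace HO

variable {X Y Z : Scheme.{u}}

/-- The tautological comparison. -/
noncomputable def of (F : X.Modules) (U : X.Opens) (n : ℕ) : Coh.HHon X F U n ≃+ HO F U n :=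
  AddEquiv.refl _

theorem of_smul (F : X.Modules) (U : X.Opens) (n : ℕ) (r : Γ(X, U)) (x : HO F U n) :
    r • x = of F U n (@HSMul.hSMul (Coh.Γtop U.toScheme) (Coh.HHon X F U n) (Coh.HHon X F U n) _
      (U.topIso.inv r) ((of F U n).symm x)) := rfl

/-- Functoriality in the module. -/
noncomputable def map {F G : X.Modules} (a : F ⟶ G) (U : X.Opens) (n : ℕ) : HO F U n →+ HO G U n :=
  (of G U n).toAddMonoidHom.comp ((CohPull.mapH ((Scheme.Modules.restrictFunctor U.ι).map a) n).comp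
    (of F U n).symm.toAddMonoidHom)

theorem map_of {F G : X.Modules} (a : F ⟶ G) (U : X.Opens) (n : ℕ) (x : Coh.HHon X F U n) :
    map a U n (of F U n x) = of G U n (CohPull.mapH ((Scheme.Modules.restrictFunctor U.ι).map a) n x) := rfl

theorem map_id (F : X.Modules) (U : X.Opens) (n : ℕ) (x : HO F U n) : map (𝟙 F) U n x = x := by
  refine Eq.trans ?_ (Sheaf.H.map_id_apply (F := Coh.toAb (F.restrict U.ι)) x)
  change Sheaf.H.map ((SheafOfModules.toSheaf _).map ((Scheme.Modules.restrictFunctor U.ι).map (𝟙 F))) n x = _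
  rw [CategoryTheory.Functor.map_id]
  rfl

theorem map_comp {F G K : X.Modules} (a : F ⟶ G) (b : G ⟶ K) (U : X.Opens) (n : ℕ) (x : HO F U n) :
    map (a ≫ b) U n x = map b U n (map a U n x) := by
  refine Eq.trans ?_ (Sheaf.H.map_comp_apply (F := Coh.toAb (F.restrict U.ι))
    ((SheafOfModules.toSheaf _).map ((Scheme.Modules.restrictFunctor U.ι).map a))
    ((SheafOfModules.toSheaf _).map ((Scheme.Modules.restrictFunctor U.ι).map b)) x)
  rfl

/-- Pullback along `ψ : F ⟶ g_* G`. -/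
noncomputable def pull (g : X ⟶ Y) {F : Y.Modules} {G : X.Modules}
    (ψ : F ⟶ (Scheme.Modules.pushforward g).obj G) {U : Y.Opens} {U' : X.Opens} (h : U' ≤ g ⁻¹ᵁ U)
    (n : ℕ) : HO F U n →+ HO G U' n :=
  (of G U' n).toAddMonoidHom.comp ((pmOn g ψ h n).comp (of F U n).symm.toAddMonoidHom)

theorem pull_map_left (g : X ⟶ Y) {F F' : Y.Modules} {G : X.Modules} (a : F' ⟶ F)
    (ψ : F ⟶ (Scheme.Modules.pushforward g).obj G) {U : Y.Opens} {U' : X.Opens} (h : U' ≤ g ⁻¹ᵁ U)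
    (n : ℕ) (x : HO F' U n) :
    pull g (a ≫ ψ) h n x = pull g ψ h n (map a U n x) :=
  pmOn_map_left g a ψ h n x

theorem pull_map_right (g : X ⟶ Y) {F : Y.Modules} {G G' : X.Modules}
    (ψ : F ⟶ (Scheme.Modules.pushforward g).obj G) (b : G ⟶ G') {U : Y.Opens} {U' : X.Opens}
    (h : U' ≤ g ⁻¹ᵁ U) (n : ℕ) (x : HO F U n) :
    pull g (ψ ≫ (Scheme.Modules.pushforward g).map b) h n x = map b U' n (pull g ψ h n x) :=
  pmOn_map_right g ψ b h n x

theorem pull_comp {g : X ⟶ Y} {k : Y ⟶ Z} {r : X ⟶ Z} (e : g ≫ k = r) {M : Z.Modules}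
    {N : Y.Modules} {P : X.Modules}
    (ψ : M ⟶ (Scheme.Modules.pushforward k).obj N) (φ : N ⟶ (Scheme.Modules.pushforward g).obj P)
    (θ : M ⟶ (Scheme.Modules.pushforward r).obj P)
    (hθ : ∀ (W : Z.Opens) (hW : r ⁻¹ᵁ W ≤ g ⁻¹ᵁ (k ⁻¹ᵁ W)) (s : Γ(M, W)),
      θ.app W s = rs P hW (φ.app (k ⁻¹ᵁ W) (ψ.app W s)))
    {U : Z.Opens} {U' : Y.Opens} {U'' : X.Opens} (h : U' ≤ k ⁻¹ᵁ U) (h' : U'' ≤ g ⁻¹ᵁ U')
    (h'' : U'' ≤ r ⁻¹ᵁ U) (n : ℕ) (x : HO M U n) :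
    pull g φ h' n (pull k ψ h n x) = pull r θ h'' n x :=
  pmOn_comp' e ψ φ θ hθ h h' h'' n x

theorem pull_congr {g g' : X ⟶ Y} (e : g = g') {M : Y.Modules} {N : X.Modules}
    (ψ : M ⟶ (Scheme.Modules.pushforward g).obj N) (ψ' : M ⟶ (Scheme.Modules.pushforward g').obj N)
    (hψ : ∀ (W : Y.Opens) (hW : g' ⁻¹ᵁ W ≤ g ⁻¹ᵁ W) (s : Γ(M, W)), ψ'.app W s = rs N hW (ψ.app W s))
    {U : Y.Opens} {U' : X.Opens} (h : U' ≤ g ⁻¹ᵁ U) (h' : U' ≤ g' ⁻¹ᵁ U) (n : ℕ)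
    (x : HO M U n) : pull g ψ h n x = pull g' ψ' h' n x :=
  pmOn_congr e ψ ψ' hψ h h' n x

/-- Sections are `H^0`. -/
noncomputable def sec (F : X.Modules) (U : X.Opens) : Γ(F, U) ≃+ HO F U 0 :=
  (CohPull.sectH0 F U).trans (of F U 0)

theorem pull_sec (g : X ⟶ Y) {F : Y.Modules} {G : X.Modules}
    (ψ : F ⟶ (Scheme.Modules.pushforward g).obj G) {U : Y.Opens} {U' : X.Opens} (h : U' ≤ g ⁻¹ᵁ U)
    (s : Γ(F, U)) : pull g ψ h 0 (sec F U s) = sec G U' (rs G h (ψ.app U s)) :=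
  pmOn_zero g ψ h s

/-- The connecting map. -/
noncomputable def δ {S : ShortComplex X.Modules} (hS : S.ShortExact) (U : X.Opens) (n : ℕ) :
    HO S.X₃ U n →+ HO S.X₁ U (n + 1) :=
  (of S.X₁ U (n + 1)).toAddMonoidHom.comp ((CohCmp.extδ (shortExact_toAbOn hS U) n).comp
    (of S.X₃ U n).symm.toAddMonoidHom)

theorem pull_δ (g : X ⟶ Y) {S : ShortComplex Y.Modules} {S' : ShortComplex X.Modules}
    {U : Y.Opens} {U' : X.Opens} (h : U' ≤ g ⁻¹ᵁ U) (hS : S.ShortExact) (hS' : S'.ShortExact)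
    (ψ₁ : S.X₁ ⟶ (Scheme.Modules.pushforward g).obj S'.X₁)
    (ψ₂ : S.X₂ ⟶ (Scheme.Modules.pushforward g).obj S'.X₂)
    (ψ₃ : S.X₃ ⟶ (Scheme.Modules.pushforward g).obj S'.X₃)
    (h₁ : S.f ≫ ψ₂ = ψ₁ ≫ (Scheme.Modules.pushforward g).map S'.f)
    (h₂ : S.g ≫ ψ₃ = ψ₂ ≫ (Scheme.Modules.pushforward g).map S'.g) (n : ℕ) (x : HO S.X₃ U n) :
    pull g ψ₁ h (n + 1) (δ hS U n x) = δ hS' U' n (pull g ψ₃ h n x) :=
  pmOn_extδ g h (shortExact_toAbOn hS U) (shortExact_toAbOn hS' U') ψ₁ ψ₂ ψ₃ h₁ h₂ n x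

end HO

end K56
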