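import Groth.Agent.Coherent.K56.HO

/-!
# Sealed interface to `Coh.HHon X F U n`: long exact sequences
-/

set_option autoImplicit false

universe u

open CategoryTheory CategoryTheory.Limits AlgebraicGeometry TopologicalSpace Opposite

namespace K56.HO

open K56.PMap K56.SchMap

variable {X : Scheme.{u}}

/-- Exactness at the left term. -/
theorem exists_δ_eq {S : ShortComplex X.Modules} (hS : S.ShortExact) (U : X.Opens) (n : ℕ)
    (x : HO S.X₁ U (n + 1)) (hx : map S.f U (n + 1) x = 0) : ∃ y : HO S.X₃ U n, δ hS U n y = x :=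
  Abelian.Ext.covariant_sequence_exact₁ _ (shortExact_toAbOn hS U) x hx rfl

/-- Exactness at the right term. -/
theorem exists_map_g_eq {S : ShortComplex X.Modules} (hS : S.ShortExact) (U : X.Opens) (n : ℕ)
    (x : HO S.X₃ U n) (hx : δ hS U n x = 0) : ∃ y : HO S.X₂ U n, map S.g U n y = x :=
  Abelian.Ext.covariant_sequence_exact₃ _ (shortExact_toAbOn hS U) x rfl hx

/-- Exactness at the middle term. -/
theorem exists_map_f_eq {S : ShortComplex X.Modules} (hS : S.ShortExact) (U : X.Opens) (n : ℕ)
    (x : HO S.X₂ U n) (hx : map S.g U n x = 0) : ∃ y : HO S.X₁ U n, map S.f U n y = x :=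
  Abelian.Ext.covariant_sequence_exact₂ _ (shortExact_toAbOn hS U) x hx

theorem comp_g_extClass {C : Type*} [Category* C] [Abelian C] [HasExt.{u} C] {Z : C}
    {S : ShortComplex C} (hS : S.ShortExact) (n : ℕ) (y : Abelian.Ext Z S.X₂ n) :
    Abelian.Ext.comp (Abelian.Ext.comp y (Abelian.Ext.mk₀ S.g) (add_zero n)) hS.extClass rfl = 0 := by
  rw [Abelian.Ext.comp_assoc _ _ _ (add_zero n) (zero_add 1) (by omega), hS.comp_extClass,
    Abelian.Ext.comp_zero]

theorem extClass_comp_f {C : Type*} [Category* C] [Abelian C] [HasExt.{u} C] {Z : C}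
    {S : ShortComplex C} (hS : S.ShortExact) (n : ℕ) (y : Abelian.Ext Z S.X₃ n) :
    Abelian.Ext.comp (Abelian.Ext.comp y hS.extClass (rfl : n + 1 = n + 1)) (Abelian.Ext.mk₀ S.f)
      (add_zero (n + 1)) = 0 := by
  rw [Abelian.Ext.comp_assoc _ _ _ rfl (add_zero 1) (by omega), hS.extClass_comp,
    Abelian.Ext.comp_zero]

theorem δ_map_g {S : ShortComplex X.Modules} (hS : S.ShortExact) (U : X.Opens) (n : ℕ)
    (y : HO S.X₂ U n) : δ hS U n (map S.g U n y) = 0 :=
  comp_g_extClass (shortExact_toAbOn hS U) n y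

theorem map_f_δ {S : ShortComplex X.Modules} (hS : S.ShortExact) (U : X.Opens) (n : ℕ)
    (y : HO S.X₃ U n) : map S.f U (n + 1) (δ hS U n y) = 0 :=
  extClass_comp_f (shortExact_toAbOn hS U) n y

/-- Every `O`-module sits in a short exact sequence with injective middle term. -/
theorem exists_ses [HasInjectiveResolutions X.Modules] (F : X.Modules) :
    ∃ S : ShortComplex X.Modules, S.ShortExact ∧ Injective S.X₂ ∧ S.X₁ = F := by
  have : EnoughInjectives X.Modules :=
    Groth.Agent.Ega3B.RpushAbCmp.enoughInjectives_of_hasInjectiveResolutions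
  refine ⟨ShortComplex.mk (Injective.ι F) (cokernel.π (Injective.ι F)) (cokernel.condition _), ?_,
    inferInstanceAs (Injective (Injective.under F)), rfl⟩
  exact
    { exact := ShortComplex.exact_cokernel _
      mono_f := inferInstanceAs (Mono (Injective.ι F))
      epi_g := inferInstanceAs (Epi (cokernel.π (Injective.ι F))) }

theorem subsingleton_of_injective (I : X.Modules) [Injective I] (U : X.Opens) (n : ℕ) :
    Subsingleton (HO I U (n + 1)) :=
  Groth.Agent.Ega3B.RpushCmp.subsingleton_HHon_of_isFlasque I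
    (Groth.Agent.Ega3B.InjMod.isFlasque_of_injective I) U (n + 1) (Nat.succ_pos n)

end K56.HO
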