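import Groth.Agent.Coherent.K56.HOExact
import Groth.Agent.Ega3B.HLes

/-!
# Restriction maps and module structure on the sealed groups `HO`
-/

set_option autoImplicit false

universe u

open CategoryTheory CategoryTheory.Limits AlgebraicGeometry TopologicalSpace Opposite

namespace K56.HO

open K56.PMap K56.SchMap

variable {X Y : Scheme.{u}}

/-- Restriction. -/
noncomputable def res (F : X.Modules) {U V : X.Opens} (h : V ≤ U) (n : ℕ) : HO F U n →+ HO F V n :=
  pull (𝟙 X) (idHom F) h n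

theorem res_def (F : X.Modules) {U V : X.Opens} (h : V ≤ U) (n : ℕ) (x : HO F U n) :
    res F h n x = pull (𝟙 X) (idHom F) h n x := rfl

theorem of_resLE (F : X.Modules) {U V : X.Opens} (h : V ≤ U) (n : ℕ) (x : Coh.HHon X F U n) :
    of F V n (CohPull.resLE F h n x) = res F h n (of F U n x) :=
  congrArg (of F V n) (resLE_eq F h n x)

theorem res_pull (g : X ⟶ Y) {F : Y.Modules} {G : X.Modules}
    (ψ : F ⟶ (Scheme.Modules.pushforward g).obj G) {U : Y.Opens} {V W : X.Opens} (h : V ≤ g ⁻¹ᵁ U)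
    (h' : W ≤ V) (n : ℕ) (x : HO F U n) :
    res G h' n (pull g ψ h n x) = pull g ψ (h'.trans h) n x :=
  pull_comp (Category.id_comp g) ψ (idHom G) ψ
    (fun W hW s => (rs_self G (le_refl (g ⁻¹ᵁ W)) _).symm) _ _ _ n x

theorem pull_res (g : X ⟶ Y) {F : Y.Modules} {G : X.Modules}
    (ψ : F ⟶ (Scheme.Modules.pushforward g).obj G) {U V : Y.Opens} {W : X.Opens} (h : V ≤ U)
    (h' : W ≤ g ⁻¹ᵁ V) (n : ℕ) (x : HO F U n) :
    pull g ψ h' n (res F h n x) = pull g ψ (h'.trans (g.preimage_mono h)) n x :=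
  pull_comp (Category.comp_id g) (idHom F) ψ ψ
    (fun W hW s => (rs_self G (le_refl (g ⁻¹ᵁ W)) _).symm) _ _ _ n x

theorem res_res (F : X.Modules) {U V W : X.Opens} (h : V ≤ U) (h' : W ≤ V) (n : ℕ) (x : HO F U n) :
    res F h' n (res F h n x) = res F (h'.trans h) n x :=
  res_pull (𝟙 X) (idHom F) h h' n x

theorem res_map {F G : X.Modules} (a : F ⟶ G) {U V : X.Opens} (h : V ≤ U) (n : ℕ)
    (x : HO F U n) : res G h n (map a U n x) = map a V n (res F h n x) := by
  rw [res_def, res_def, ← pull_map_left, ← pull_map_right]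
  rfl

theorem res_sec (F : X.Modules) {U V : X.Opens} (h : V ≤ U) (s : Γ(F, U)) :
    res F h 0 (sec F U s) = sec F V (rs F h s) := pull_sec (𝟙 X) (idHom F) h s

theorem res_δ {S : ShortComplex X.Modules} (hS : S.ShortExact) {U V : X.Opens} (h : V ≤ U) (n : ℕ)
    (x : HO S.X₃ U n) : res S.X₁ h (n + 1) (δ hS U n x) = δ hS V n (res S.X₃ h n x) :=
  pull_δ (𝟙 X) h hS hS (idHom S.X₁) (idHom S.X₂) (idHom S.X₃) rfl rfl n x

theorem resHomApp_id (F : X.Modules) {U : X.Opens} (W : U.toScheme.Opens)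
    (hW : W ≤ ((𝟙 X : X ⟶ X).resLE U U (by rw [Scheme.Hom.id_preimage])) ⁻¹ᵁ W)
    (s : Γ(F, U.ι ''ᵁ W)) :
    rs F (Scheme.Hom.image_mono U.ι hW) (resHomApp (𝟙 X) (idHom F)
      (show U ≤ (𝟙 X : X ⟶ X) ⁻¹ᵁ U by rw [Scheme.Hom.id_preimage]) W s) = s := by
  rw [resHomApp_apply, rs_rs]
  exact rs_self F (le_refl (U.ι ''ᵁ W)) s

theorem res_self (F : X.Modules) {U : X.Opens} (h : U ≤ U) (n : ℕ) (x : HO F U n) :
    res F h n x = x := by
  refine Eq.trans ?_ (pm_id (𝟙 (Coh.toAb (F.restrict U.ι))) n x |>.trans ?_)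
  · refine pm_congr (X := U.toScheme.toTopCat) (Y := U.toScheme.toTopCat) ?_ _ _ ?_ n x
    · rw [Scheme.Hom.resLE_id]
      change (X.homOfLE h).base = 𝟙 _
      rw [Scheme.homOfLE_rfl]
      rfl
    · intro W hW s
      exact resHomApp_id F W hW s
  · exact Sheaf.H.map_id_apply _

theorem map_sec {F G : X.Modules} (a : F ⟶ G) (U : X.Opens) (s : Γ(F, U)) :
    map a U 0 (sec F U s) = sec G U (a.app U s) := by
  rw [← res_self G (le_refl U) 0 (map a U 0 (sec F U s)), res_def, ← pull_map_left]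
  refine (pull_sec (𝟙 X) (a ≫ idHom G) (le_refl U) s).trans ?_
  exact congrArg (sec G U) (rs_self G (le_refl U) _)

/-- Pullback to the pullback module. -/
noncomputable def pullU (g : X ⟶ Y) (F : Y.Modules) {U : Y.Opens} {U' : X.Opens} (h : U' ≤ g ⁻¹ᵁ U)
    (n : ℕ) : HO F U n →+ HO ((Scheme.Modules.pullback g).obj F) U' n :=
  pull g ((Scheme.Modules.pullbackPushforwardAdjunction g).unit.app F) h n

theorem of_pullOn (g : X ⟶ Y) (F : Y.Modules) {U : Y.Opens} {U' : X.Opens} (h : U' ≤ g ⁻¹ᵁ U)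
    (n : ℕ) (x : Coh.HHon Y F U n) :
    of _ U' n (CohPull.pullOn g U U' h F n x) = pullU g F h n (of F U n x) :=
  congrArg (of _ U' n) (pullOn_eq g U U' h F n x)

/-! ### Module structure -/

theorem map_smul {F G : X.Modules} (a : F ⟶ G) (U : X.Opens) (n : ℕ) (r : Γ(X, U)) (x : HO F U n) :
    map a U n (r • x) = r • map a U n x :=
  Groth.Agent.Ega3B.HLes.hmap_smul ((Scheme.Modules.restrictFunctor U.ι).map a) n
    (show Coh.Γtop U.toScheme from U.topIso.inv r) x

end K56.HO
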