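import Groth.Agent.Coherent.K56.HORes

/-!
# Semilinearity of the maps between the sealed groups `HO`
-/

set_option autoImplicit false

universe u

open CategoryTheory CategoryTheory.Limits AlgebraicGeometry TopologicalSpace Opposite

namespace K56.HO

open K56.PMap K56.SchMap

variable {X Y : Scheme.{u}}

/-- The connecting map is linear. -/
theorem δ_smul {S : ShortComplex X.Modules} (hS : S.ShortExact) (U : X.Opens) (n : ℕ) (r : Γ(X, U))
    (x : HO S.X₃ U n) : δ hS U n (r • x) = r • δ hS U n x := by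
  have h1 : PreservesFiniteColimits (Scheme.Modules.restrictFunctor U.ι) := inferInstance
  have h2 : PreservesFiniteLimits (Scheme.Modules.restrictFunctor U.ι) := inferInstance
  exact Groth.Agent.Ega3B.HLes.δ_smul (hS.map_of_exact (Scheme.Modules.restrictFunctor U.ι)) n
    (show Coh.Γtop U.toScheme from U.topIso.inv r) x

/-- The ring element acting on sections over `U`. -/
theorem resTop_topIso (U : X.Opens) (r : Γ(X, U)) (V : U.toScheme.Opens) :
    (Coh.resTop U.toScheme (op V) (show Coh.Γtop U.toScheme from U.topIso.inv r) : Γ(U.toScheme, V)) =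
      (X.presheaf.map (homOfLE (show U.ι ''ᵁ V ≤ U by
        simpa using U.ι.image_mono (le_top (a := V)))).op r : Γ(X, U.ι ''ᵁ V)) := by
  have h : U.topIso.inv ≫ U.toScheme.presheaf.map (homOfLE (le_top (a := V))).op =
      X.presheaf.map (homOfLE (show U.ι ''ᵁ V ≤ U by
        simpa using U.ι.image_mono (le_top (a := V)))).op := by
    rw [Scheme.Opens.topIso_inv]
    exact (X.presheaf.map_comp _ _).symm
  exact congr($h r)

theorem rs_smul (F : X.Modules) {U V : X.Opens} (h : V ≤ U) (r : Γ(X, U)) (s : Γ(F, U)) :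
    rs F h (r • s) = X.presheaf.map (homOfLE h).op r • rs F h s :=
  F.map_smul (homOfLE h) r s

theorem smul_restrict (F : X.Modules) (U : X.Opens) (V : U.toScheme.Opens) (a : Γ(U.toScheme, V))
    (s : Γ(F, U.ι ''ᵁ V)) :
    (@HSMul.hSMul (U.toScheme.ringCatSheaf.obj.obj (op V)) ((F.restrict U.ι).val.obj (op V))
      ((F.restrict U.ι).val.obj (op V)) _ a s : Γ(F, U.ι ''ᵁ V)) = (U.ι.appIso V).inv a • s := rfl

/-- multiplication by `r` on the restriction, as a map of abelian sheaves -/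
theorem smulAb_restrict (F : X.Modules) (U : X.Opens) (r : Γ(X, U)) (V : U.toScheme.Opens)
    (s : Γ(F, U.ι ''ᵁ V)) :
    (Coh.smulAb (F.restrict U.ι) (show Coh.Γtop U.toScheme from U.topIso.inv r)).hom.app (op V) s =
      (X.presheaf.map (homOfLE (show U.ι ''ᵁ V ≤ U by
        simpa using U.ι.image_mono (le_top (a := V)))).op r • s : Γ(F, U.ι ''ᵁ V)) := by
  rw [← resTop_topIso U r V]
  refine (smul_restrict F U V _ s).trans ?_
  rw [Scheme.Opens.ι_appIso]
  rfl

theorem appLE_rs (g : X ⟶ Y) {U : Y.Opens} {U' : X.Opens} (h : U' ≤ g ⁻¹ᵁ U) {W : Y.Opens}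
    (hW : W ≤ U) {T : X.Opens} (hT : T ≤ g ⁻¹ᵁ W) (hT' : T ≤ U') (r : Γ(Y, U)) :
    X.presheaf.map (homOfLE hT').op (g.appLE U U' h r) =
      X.presheaf.map (homOfLE hT).op (g.app W (Y.presheaf.map (homOfLE hW).op r)) := by
  have h1 : g.appLE U U' h ≫ X.presheaf.map (homOfLE hT').op =
      Y.presheaf.map (homOfLE hW).op ≫ g.app W ≫ X.presheaf.map (homOfLE hT).op := by
    rw [Scheme.Hom.appLE_map, Scheme.Hom.app_eq_appLE, Scheme.Hom.appLE_map, Scheme.Hom.map_appLE]
  exact congr($h1 r)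

theorem resHom_smul (g : X ⟶ Y) {F : Y.Modules} {G : X.Modules}
    (ψ : F ⟶ (Scheme.Modules.pushforward g).obj G) {U : Y.Opens} {U' : X.Opens} (h : U' ≤ g ⁻¹ᵁ U)
    (r : Γ(Y, U)) :
    Coh.smulAb (F.restrict U.ι) (show Coh.Γtop U.toScheme from U.topIso.inv r) ≫ resHom g ψ h =
      resHom g ψ h ≫ (CohTop.push (g.resLE U U' h).base).map (Coh.smulAb (G.restrict U'.ι)
        (show Coh.Γtop U'.toScheme from U'.topIso.inv (g.appLE U U' h r))) := by
  apply Sheaf.hom_ext
  ext W s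
  change Γ(F, U.ι ''ᵁ W.unop) at s
  have e1 := smulAb_restrict F U r W.unop s
  have e2 := smulAb_restrict G U' (g.appLE U U' h r) ((g.resLE U U' h) ⁻¹ᵁ W.unop) (resHomApp g ψ h W.unop s)
  refine (congrArg (resHomApp g ψ h W.unop) e1).trans (Eq.trans ?_ e2.symm)
  rw [resHomApp_apply, resHomApp_apply]
  have e3 : ∀ t : Γ(Y, U.ι ''ᵁ W.unop), ψ.app (U.ι ''ᵁ W.unop) (t • s) =
      (show Γ(G, g ⁻¹ᵁ (U.ι ''ᵁ W.unop)) from
        g.app (U.ι ''ᵁ W.unop) t • (show Γ(G, g ⁻¹ᵁ (U.ι ''ᵁ W.unop)) from ψ.app (U.ι ''ᵁ W.unop) s)) :=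
    fun t => Scheme.Modules.Hom.app_smul ψ t s
  rw [e3]
  refine (rs_smul G (image_resLE_le g h W.unop) _ _).trans ?_
  rw [← appLE_rs g h]

/-- The pullback maps are semilinear. -/
theorem pull_smul (g : X ⟶ Y) {F : Y.Modules} {G : X.Modules}
    (ψ : F ⟶ (Scheme.Modules.pushforward g).obj G) {U : Y.Opens} {U' : X.Opens} (h : U' ≤ g ⁻¹ᵁ U)
    (n : ℕ) (r : Γ(Y, U)) (x : HO F U n) :
    pull g ψ h n (r • x) = g.appLE U U' h r • pull g ψ h n x := by
  refine (pm_map_left (g.resLE U U' h).base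
    (Coh.smulAb (F.restrict U.ι) (show Coh.Γtop U.toScheme from U.topIso.inv r)) (resHom g ψ h) n x).symm.trans ?_
  rw [resHom_smul]
  exact pm_map_right (g.resLE U U' h).base (resHom g ψ h) _ n x

theorem res_smul (F : X.Modules) {U V : X.Opens} (h : V ≤ U) (n : ℕ) (r : Γ(X, U)) (x : HO F U n) :
    res F h n (r • x) = X.presheaf.map (homOfLE h).op r • res F h n x := by
  rw [res_def, pull_smul, res_def]
  rw [show (𝟙 X : X ⟶ X).appLE U V h = X.presheaf.map (homOfLE h).op by
    rw [Scheme.Hom.appLE, Scheme.Hom.id_app]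
    exact Category.id_comp _]

/-- The identification of sections with `H^0` is linear. -/
theorem sec_smul (F : X.Modules) (U : X.Opens) (r : Γ(X, U)) (s : Γ(F, U)) :
    sec F U (r • s) = r • sec F U s := by
  apply (Sheaf.H.equiv₀ (Coh.toAb (F.restrict U.ι)) (isTerminalTop : IsTerminal (⊤ : U.toScheme.Opens))).injective
  refine (equiv₀_sectH0 F U (r • s)).trans ?_
  refine Eq.trans ?_ (Sheaf.H.equiv₀_naturality (T := (⊤ : U.toScheme.Opens)) isTerminalTop
    (Coh.smulAb (F.restrict U.ι) (show Coh.Γtop U.toScheme from U.topIso.inv r)) (CohPull.sectH0 F U s))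
  rw [equiv₀_sectH0, smulAb_restrict, rs_smul]

end K56.HO
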