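import Groth.Agent.Coherent.K56.Eps2
import Groth.Agent.CohqA.PullbackQCoh

/-!
# Cohomology over opens of the base: `HOb f F V n = H^n(f⁻¹ V, F)` as a `Γ(S, V)`-module
-/

set_option autoImplicit false

universe u

open CategoryTheory CategoryTheory.Limits AlgebraicGeometry TopologicalSpace Opposite

namespace K56

open K56.SchMap

/-- `H^n(f⁻¹ V, F)`, as a `Γ(S, V)`-module. -/
def HOb {X S : Scheme.{u}} (f : X ⟶ S) (F : X.Modules) (V : S.Opens) (n : ℕ) : Type u :=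
  HO F (f ⁻¹ᵁ V) n

noncomputable instance HOb.instACG {X S : Scheme.{u}} (f : X ⟶ S) (F : X.Modules) (V : S.Opens)
    (n : ℕ) : AddCommGroup (HOb f F V n) := (inferInstance : AddCommGroup (HO F (f ⁻¹ᵁ V) n))

noncomputable instance HOb.instMod {X S : Scheme.{u}} (f : X ⟶ S) (F : X.Modules) (V : S.Opens)
    (n : ℕ) : Module Γ(S, V) (HOb f F V n) :=
  Module.compHom (HO F (f ⁻¹ᵁ V) n) (f.app V).hom

namespace HOb

variable {X S X' S' : Scheme.{u}} (f : X ⟶ S) (f' : X' ⟶ S') (g : S' ⟶ S) (g' : X' ⟶ X)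

/-- The tautological comparison. -/
noncomputable def of (F : X.Modules) (V : S.Opens) (n : ℕ) : HO F (f ⁻¹ᵁ V) n ≃+ HOb f F V n :=
  AddEquiv.refl _

theorem smul_of (F : X.Modules) (V : S.Opens) (n : ℕ) (r : Γ(S, V)) (x : HO F (f ⁻¹ᵁ V) n) :
    r • of f F V n x = of f F V n (f.app V r • x) := rfl

/-- The comparison map is linear. -/
noncomputable def epsL [HasInjectiveResolutions X.Modules]
    {Δ : RDer.DerivedLES (Scheme.Modules.pushforward f)} (E : CohCmp.SectCmp f Δ) (F : X.Modules)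
    (V : S.Opens) (n : ℕ) : HOb f F V n →ₗ[Γ(S, V)] Γ((Coh.Rpush f n).obj F, V) where
  toFun x := Eps.eps f E V F n ((of f F V n).symm x)
  map_add' x y := map_add (Eps.eps f E V F n) ((of f F V n).symm x) ((of f F V n).symm y)
  map_smul' r x := Eps.eps_smul f E V n F r ((of f F V n).symm x)

theorem epsL_apply [HasInjectiveResolutions X.Modules]
    {Δ : RDer.DerivedLES (Scheme.Modules.pushforward f)} (E : CohCmp.SectCmp f Δ) (F : X.Modules)
    (V : S.Opens) (n : ℕ) (x : HOb f F V n) :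
    epsL f E F V n x = Eps.eps f E V F n ((of f F V n).symm x) := rfl

theorem epsL_bijective [HasInjectiveResolutions X.Modules]
    {Δ : RDer.DerivedLES (Scheme.Modules.pushforward f)} (E : CohCmp.SectCmp f Δ)
    [QuasiCompact f] [QuasiSeparated f] (F : X.Modules) (hF : Coh.IsQCoh F)
    {V : S.Opens} (hV : IsAffineOpen V) (n : ℕ) : Function.Bijective (epsL f E F V n) :=
  (Eps.bijective_of_affine f E F hF hV n).comp (of f F V n).symm.bijective

theorem preimage_le (w : g' ≫ f = f' ≫ g) {V : S.Opens} {W : S'.Opens} (h : W ≤ g ⁻¹ᵁ V) :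
    f' ⁻¹ᵁ W ≤ g' ⁻¹ᵁ (f ⁻¹ᵁ V) :=
  (f'.preimage_mono h).trans (CohCmp.sqLE f g f' g' w V)

/-- Pullback of classes over `V` to classes over `W ≤ g⁻¹ V`, along `ψ : F ⟶ g'_* G`. -/
noncomputable def pull (w : g' ≫ f = f' ≫ g) {F : X.Modules} {G : X'.Modules}
    (ψ : F ⟶ (Scheme.Modules.pushforward g').obj G) {V : S.Opens} {W : S'.Opens}
    (h : W ≤ g ⁻¹ᵁ V) (n : ℕ) : HOb f F V n →+ HOb f' G W n :=
  (HO.pull g' ψ (preimage_le f f' g g' w h) n)

theorem pull_of (w : g' ≫ f = f' ≫ g) {F : X.Modules} {G : X'.Modules}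
    (ψ : F ⟶ (Scheme.Modules.pushforward g').obj G) {V : S.Opens} {W : S'.Opens}
    (h : W ≤ g ⁻¹ᵁ V) (n : ℕ) (x : HO F (f ⁻¹ᵁ V) n) :
    pull f f' g g' w ψ h n (of f F V n x) =
      of f' G W n (HO.pull g' ψ (preimage_le f f' g g' w h) n x) := rfl

theorem appLE_app (w : g' ≫ f = f' ≫ g) {V : S.Opens} {W : S'.Opens} (h : W ≤ g ⁻¹ᵁ V) :
    f.app V ≫ g'.appLE (f ⁻¹ᵁ V) (f' ⁻¹ᵁ W) (preimage_le f f' g g' w h) =
      g.appLE V W h ≫ f'.app W := by
  rw [Scheme.Hom.app_eq_appLE, Scheme.Hom.appLE_comp_appLE, Scheme.Hom.app_eq_appLE,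
    Scheme.Hom.appLE_comp_appLE]
  congr 1

theorem pull_smul (w : g' ≫ f = f' ≫ g) {F : X.Modules} {G : X'.Modules}
    (ψ : F ⟶ (Scheme.Modules.pushforward g').obj G) {V : S.Opens} {W : S'.Opens}
    (h : W ≤ g ⁻¹ᵁ V) (n : ℕ) (r : Γ(S, V)) (x : HOb f F V n) :
    pull f f' g g' w ψ h n (r • x) = g.appLE V W h r • pull f f' g g' w ψ h n x := by
  refine (HO.pull_smul g' ψ (preimage_le f f' g g' w h) n (f.app V r) ((of f F V n).symm x)).trans ?_
  have e := congr($(appLE_app f f' g g' w h) r)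
  exact congrArg (fun t => (t • HO.pull g' ψ (preimage_le f f' g g' w h) n ((of f F V n).symm x) :
    HO G (f' ⁻¹ᵁ W) n)) e

end HOb

end K56
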