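import Groth.Agent.Coherent.K56.HORes

/-!
# Cohomology of the whole space and of its open subschemes
-/

set_option autoImplicit false

universe u

open CategoryTheory CategoryTheory.Limits AlgebraicGeometry TopologicalSpace Opposite

namespace K56

open K56.PMap K56.SchMap

/-- `Coh.HH X F n`, sealed. -/
def HT {X : Scheme.{u}} (F : X.Modules) (n : ℕ) : Type u := Coh.HH X F n

noncomputable def HT.acg {X : Scheme.{u}} (F : X.Modules) (n : ℕ) :
    AddCommGroup (HT F n) := (inferInstance : AddCommGroup (Coh.HH X F n))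

attribute [instance] HT.acg

/-- Global functions on `X` act on `H^n(X, F)`. -/
noncomputable instance HT.instModule {X : Scheme.{u}} (F : X.Modules) (n : ℕ) :
    Module (Coh.Γtop X) (HT F n) :=
  (inferInstance : Module (Coh.Γtop X) (Coh.HH X F n))

namespace HT

variable {X Y Z : Scheme.{u}}

/-- The tautological comparison. -/
noncomputable def of (F : X.Modules) (n : ℕ) : Coh.HH X F n ≃+ HT F n :=
  AddEquiv.refl _

/-- Functoriality in the module. -/
noncomputable def map {F G : X.Modules} (a : F ⟶ G) (n : ℕ) : HT F n →+ HT G n :=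
  (of G n).toAddMonoidHom.comp ((CohPull.mapH a n).comp (of F n).symm.toAddMonoidHom)

/-- The underlying morphism of abelian sheaves of `ψ : F ⟶ g_* G`. -/
noncomputable def toPush (g : X ⟶ Y) {F : Y.Modules} {G : X.Modules}
    (ψ : F ⟶ (Scheme.Modules.pushforward g).obj G) :
    Coh.toAb F ⟶ (CohTop.push g.base).obj (Coh.toAb G) :=
  (SheafOfModules.toSheaf Y.ringCatSheaf).map ψ

/-- Pullback along `ψ : F ⟶ g_* G`. -/
noncomputable def pull (g : X ⟶ Y) {F : Y.Modules} {G : X.Modules}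
    (ψ : F ⟶ (Scheme.Modules.pushforward g).obj G) (n : ℕ) : HT F n →+ HT G n :=
  (of G n).toAddMonoidHom.comp ((pm g.base (toPush g ψ) n).comp (of F n).symm.toAddMonoidHom)

theorem image_preimage_le (U : X.Opens) (W : X.Opens) : U.ι ''ᵁ (U.ι ⁻¹ᵁ W) ≤ W :=
  (Scheme.Hom.image_preimage_eq_opensRange_inf U.ι W).trans_le inf_le_right

/-- Restriction to an open, on sheaves. -/
noncomputable def toOpen (F : X.Modules) (U : X.Opens) :
    Coh.toAb F ⟶ (CohTop.push U.ι.base).obj (Coh.toAb (F.restrict U.ι)) :=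
  ⟨{ app := fun W => AddCommGrpCat.ofHom (rs F (image_preimage_le U W.unop))
     naturality := fun W W' i => by
        ext s
        have h : W'.unop ≤ W.unop := leOfHom i.unop
        exact (rs_rs F h (image_preimage_le U W'.unop) s).trans
          (rs_rs F (image_preimage_le U W.unop)
            (Scheme.Hom.image_mono U.ι (U.ι.preimage_mono h)) s).symm }⟩

theorem toOpen_app (F : X.Modules) (U : X.Opens) (W : X.Opens) (s : Γ(F, W)) :
    (toOpen F U).hom.app (op W) s = rs F (image_preimage_le U W) s := rfl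

theorem comp_app₁ (g : X ⟶ Y) {F : Y.Modules} {G : X.Modules}
    (ψ : F ⟶ (Scheme.Modules.pushforward g).obj G) {U : Y.Opens} {U' : X.Opens} (h : U' ≤ g ⁻¹ᵁ U)
    (W : Y.Opens) (s : Γ(F, W)) :
    (toOpen F U ≫ (CohTop.push U.ι.base).map (resHom g ψ h)).hom.app (op W) s =
      resHomApp g ψ h (U.ι ⁻¹ᵁ W) (rs F (image_preimage_le U W) s) := rfl

theorem comp_app₂ (g : X ⟶ Y) {F : Y.Modules} {G : X.Modules}
    (ψ : F ⟶ (Scheme.Modules.pushforward g).obj G) (U' : X.Opens)
    (W : Y.Opens) (s : Γ(F, W)) :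
    (toPush g ψ ≫ (CohTop.push g.base).map (toOpen G U')).hom.app (op W) s =
      rs G (image_preimage_le U' (g ⁻¹ᵁ W)) (ψ.app W s) := rfl

theorem comp_app_eq (g : X ⟶ Y) {F : Y.Modules} {G : X.Modules}
    (ψ : F ⟶ (Scheme.Modules.pushforward g).obj G) {U : Y.Opens} {U' : X.Opens} (h : U' ≤ g ⁻¹ᵁ U)
    (W : Y.Opens) (s : Γ(F, W))
    (hW : U'.ι ⁻¹ᵁ (g ⁻¹ᵁ W) ≤ (g.resLE U U' h) ⁻¹ᵁ (U.ι ⁻¹ᵁ W)) :
    rs G (Scheme.Hom.image_mono U'.ι hW)
      (resHomApp g ψ h (U.ι ⁻¹ᵁ W) (rs F (image_preimage_le U W) s)) =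
      rs G (image_preimage_le U' (g ⁻¹ᵁ W)) (ψ.app W s) := by
  rw [resHomApp_apply, rs_rs]
  refine (congrArg _ (app_rs' g ψ (image_preimage_le U W) s)).trans ?_
  exact rs_rs G _ _ _

/-- Restriction to an open. -/
noncomputable def res (F : X.Modules) (U : X.Opens) (n : ℕ) : HT F n →+ HO F U n :=
  (HO.of F U n).toAddMonoidHom.comp ((pm U.ι.base (toOpen F U) n).comp (of F n).symm.toAddMonoidHom)

theorem map_of {F G : X.Modules} (a : F ⟶ G) (n : ℕ) (x : Coh.HH X F n) :
    map a n (of F n x) = of G n (CohPull.mapH a n x) := rfl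

theorem pull_map_right (g : X ⟶ Y) {F : Y.Modules} {G G' : X.Modules}
    (ψ : F ⟶ (Scheme.Modules.pushforward g).obj G) (b : G ⟶ G') (n : ℕ) (x : HT F n) :
    pull g (ψ ≫ (Scheme.Modules.pushforward g).map b) n x = map b n (pull g ψ n x) :=
  pm_map_right g.base (toPush g ψ) ((SheafOfModules.toSheaf X.ringCatSheaf).map b) n x

theorem pull_map_left (g : X ⟶ Y) {F F' : Y.Modules} {G : X.Modules} (a : F' ⟶ F)
    (ψ : F ⟶ (Scheme.Modules.pushforward g).obj G) (n : ℕ) (x : HT F' n) :
    pull g (a ≫ ψ) n x = pull g ψ n (map a n x) :=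
  pm_map_left g.base ((SheafOfModules.toSheaf Y.ringCatSheaf).map a) (toPush g ψ) n x

/-- The prelude's `pullMod`. -/
theorem of_pullMod (g : X ⟶ Y) (M : Y.Modules) (n : ℕ) (x : Coh.HH Y M n) :
    of _ n (CohPull.pullMod g M n x) =
      pull g ((Scheme.Modules.pullbackPushforwardAdjunction g).unit.app M) n (of M n x) := rfl

/-- The prelude's edge map. -/
theorem of_pushEdge (g : X ⟶ Y) (G : X.Modules) (n : ℕ)
    (x : Coh.HH Y ((Scheme.Modules.pushforward g).obj G) n) :
    of G n (CohPull.pushEdge g G n x) =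
      pull g (𝟙 ((Scheme.Modules.pushforward g).obj G)) n (of _ n x) := by
  have h := pull_map_right g ((Scheme.Modules.pullbackPushforwardAdjunction g).unit.app
    ((Scheme.Modules.pushforward g).obj G)) ((Scheme.Modules.pullbackPushforwardAdjunction g).counit.app G)
    n (of _ n x)
  rw [Adjunction.right_triangle_components] at h
  exact h.symm

/-- Pullback commutes with restriction to opens. -/
theorem pull_res (g : X ⟶ Y) {F : Y.Modules} {G : X.Modules}
    (ψ : F ⟶ (Scheme.Modules.pushforward g).obj G) {U : Y.Opens} {U' : X.Opens} (h : U' ≤ g ⁻¹ᵁ U)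
    (n : ℕ) (x : HT F n) :
    HO.pull g ψ h n (res F U n x) = res G U' n (pull g ψ n x) := by
  refine (pm_comp (g.resLE U U' h).base U.ι.base (toOpen F U) (resHom g ψ h) n x).trans
    (Eq.trans ?_ (pm_comp U'.ι.base g.base (toPush g ψ) (toOpen G U') n x).symm)
  refine pm_congr (X := U'.toScheme.toTopCat) (Y := Y.toTopCat) ?_ _ _ (fun W hW s => ?_) n x
  · rw [← Scheme.Hom.comp_base, ← Scheme.Hom.comp_base, Scheme.Hom.resLE_comp_ι]
  · exact comp_app_eq g ψ h W s hW

end HT

end K56
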