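import Groth.Agent.Coherent.K56.HT

/-!
# Restriction to the open subscheme `⊤` is bijective on cohomology
-/

set_option autoImplicit false

universe u

open CategoryTheory CategoryTheory.Limits AlgebraicGeometry TopologicalSpace Opposite

namespace K56.HT

open K56.PMap K56.SchMap

variable {X Y Z : Scheme.{u}}

theorem top_le (X : Scheme.{u}) (W : (⊤ : X.Opens).toScheme.Opens) :
    X.topIso.inv ⁻¹ᵁ W ≤ (⊤ : X.Opens).ι ''ᵁ W := by
  intro x hx
  refine ⟨X.topIso.inv x, hx, ?_⟩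
  have h : X.topIso.inv ≫ (⊤ : X.Opens).ι = 𝟙 X := X.topIso.inv_hom_id
  change (X.topIso.inv ≫ (⊤ : X.Opens).ι) x = x
  rw [h]
  rfl

/-- The inverse, on sheaves. -/
noncomputable def fromTop (F : X.Modules) :
    Coh.toAb (F.restrict (⊤ : X.Opens).ι) ⟶ (CohTop.push X.topIso.inv.base).obj (Coh.toAb F) :=
  ⟨{ app := fun W => AddCommGrpCat.ofHom (show Γ(F, (⊤ : X.Opens).ι ''ᵁ W.unop) →+
          Γ(F, X.topIso.inv ⁻¹ᵁ W.unop) from rs F (top_le X W.unop))
     naturality := fun W W' i => by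
        ext s
        have h : W'.unop ≤ W.unop := leOfHom i.unop
        exact (rs_rs F (Scheme.Hom.image_mono (⊤ : X.Opens).ι h) (top_le X W'.unop) s).trans
          (rs_rs F (top_le X W.unop) (X.topIso.inv.preimage_mono h) s).symm }⟩

theorem comp_app₃ (F : X.Modules) (W : X.Opens) (s : Γ(F, W)) :
    (toOpen F ⊤ ≫ (CohTop.push (⊤ : X.Opens).ι.base).map (fromTop F)).hom.app (op W) s =
      rs F (top_le X ((⊤ : X.Opens).ι ⁻¹ᵁ W)) (rs F (image_preimage_le ⊤ W) s) := rfl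

theorem comp_app₄ (F : X.Modules) (W : (⊤ : X.Opens).toScheme.Opens) (s : Γ(F, (⊤ : X.Opens).ι ''ᵁ W)) :
    (fromTop F ≫ (CohTop.push X.topIso.inv.base).map (toOpen F ⊤)).hom.app (op W) s =
      rs F (image_preimage_le ⊤ (X.topIso.inv ⁻¹ᵁ W)) (rs F (top_le X W) s) := rfl

theorem left_inv (F : X.Modules) (n : ℕ) (x : Coh.HH X F n) :
    pm X.topIso.inv.base (fromTop F) n (pm (⊤ : X.Opens).ι.base (toOpen F ⊤) n x) = x := by
  refine (pm_comp X.topIso.inv.base (⊤ : X.Opens).ι.base (toOpen F ⊤) (fromTop F) n x).trans ?_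
  refine Eq.trans ?_ (pm_id (𝟙 (Coh.toAb F)) n x |>.trans (Sheaf.H.map_id_apply _))
  refine pm_congr (X := X.toTopCat) (Y := X.toTopCat) ?_ _ _ (fun W hW s => ?_) n x
  · rw [← Scheme.Hom.comp_base]
    have h : X.topIso.inv ≫ (⊤ : X.Opens).ι = 𝟙 X := X.topIso.inv_hom_id
    rw [h]
    rfl
  · refine (congrArg (rs F hW) ((comp_app₃ F W s).trans (rs_rs F _ _ s))).trans ?_
    exact (rs_rs F _ hW s).trans (rs_self F _ s)

theorem right_inv (F : X.Modules) (n : ℕ) (x : Coh.HHon X F ⊤ n) :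
    pm (⊤ : X.Opens).ι.base (toOpen F ⊤) n (pm X.topIso.inv.base (fromTop F) n x) = x := by
  refine (pm_comp (⊤ : X.Opens).ι.base X.topIso.inv.base (fromTop F) (toOpen F ⊤) n x).trans ?_
  refine Eq.trans ?_ (pm_id (𝟙 (Coh.toAb (F.restrict (⊤ : X.Opens).ι))) n x |>.trans (Sheaf.H.map_id_apply _))
  refine pm_congr (X := (⊤ : X.Opens).toScheme.toTopCat) (Y := (⊤ : X.Opens).toScheme.toTopCat) ?_ _ _
    (fun W hW s => ?_) n x
  · rw [← Scheme.Hom.comp_base]
    have h : (⊤ : X.Opens).ι ≫ X.topIso.inv = 𝟙 _ := X.topIso.hom_inv_id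
    rw [h]
    rfl
  · change W ≤ (⊤ : X.Opens).ι ⁻¹ᵁ (X.topIso.inv ⁻¹ᵁ W) at hW
    change Γ(F, (⊤ : X.Opens).ι ''ᵁ W) at s
    refine (congrArg (rs F (Scheme.Hom.image_mono (⊤ : X.Opens).ι hW))
      ((comp_app₄ F W s).trans (rs_rs F _ _ s))).trans ?_
    exact (rs_rs F _ _ s).trans (rs_self F (le_refl ((⊤ : X.Opens).ι ''ᵁ W)) s)

/-- Restriction to `⊤` is bijective. -/
theorem res_top_bijective (F : X.Modules) (n : ℕ) : Function.Bijective (res F ⊤ n) :=
  Function.bijective_iff_has_inverse.2 ⟨fun x => of F n (pm X.topIso.inv.base (fromTop F) n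
    ((HO.of F ⊤ n).symm x)), fun x => left_inv F n ((of F n).symm x), fun x => right_inv F n ((HO.of F ⊤ n).symm x)⟩

end K56.HT
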