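import Groth.Agent.Coherent.K56.C4

/-!
# Composition of base change maps
-/

set_option autoImplicit false

universe u

open CategoryTheory CategoryTheory.Limits AlgebraicGeometry TopologicalSpace Opposite

namespace K56.Horiz

open K56.SchMap K56.Sec Groth.Agent.Fga.SecComp Groth.Agent.VarietyB.PullSec

variable {X Y Z U V W : Scheme.{u}}

/-- `f^* g^* L ⟶ (g ∘ f)^* L` -/
noncomputable def cmp (f : X ⟶ Y) (g : Y ⟶ Z) (L : Z.Modules) :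
    (Scheme.Modules.pullback f).obj ((Scheme.Modules.pullback g).obj L) ⟶
      (Scheme.Modules.pullback (f ≫ g)).obj L := (Scheme.Modules.pullbackComp f g).hom.app L

/-- The pullback maps compose. -/
theorem pullU_comp (f : X ⟶ Y) (g : Y ⟶ Z) (L : Z.Modules) {O : Z.Opens} {O' : Y.Opens} {O'' : X.Opens}
    (h : O' ≤ g ⁻¹ᵁ O) (h' : O'' ≤ f ⁻¹ᵁ O') (h'' : O'' ≤ (f ≫ g) ⁻¹ᵁ O) (n : ℕ) (x : HO L O n) :
    HO.map (cmp f g L) O'' n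
      (HO.pullU f ((Scheme.Modules.pullback g).obj L) h' n (HO.pullU g L h n x)) =
      HO.pullU (f ≫ g) L h'' n x := by
  rw [HO.pullU, HO.pullU, HO.pullU, ← HO.pull_map_right]
  refine HO.pull_comp rfl _ _ _ (fun T hT s => ?_) h h' h'' n x
  have h1 := sec_comp f g L (le_refl (g ⁻¹ᵁ T)) (le_refl (f ⁻¹ᵁ (g ⁻¹ᵁ T))) (le_refl ((f ≫ g) ⁻¹ᵁ T)) s
  have h2 := unit_app_eq (f ≫ g) L T s
  have h3 := unit_app_eq g L T s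
  have h4 := unit_app_eq f ((Scheme.Modules.pullback g).obj L) (g ⁻¹ᵁ T)
    (sec g L (le_refl (g ⁻¹ᵁ T)) s)
  refine h2.trans (h1.symm.trans ?_)
  refine Eq.trans ?_ (rs_self _ (le_refl ((f ≫ g) ⁻¹ᵁ T)) _).symm
  refine congrArg (((Scheme.Modules.pullbackComp f g).hom.app L).app (f ⁻¹ᵁ (g ⁻¹ᵁ T))) ?_
  refine h4.symm.trans ?_
  exact congrArg (((Scheme.Modules.pullbackPushforwardAdjunction f).unit.app
    ((Scheme.Modules.pullback g).obj L)).app (g ⁻¹ᵁ T)) h3.symm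

/-- A morphism out of `φ^* ψ^* M` is determined by its values on pulled back sections. -/
theorem hom_ext_pull2 (φ : U ⟶ V) (ψ : V ⟶ W) {M : W.Modules} {N : U.Modules}
    (a b : (Scheme.Modules.pullback φ).obj ((Scheme.Modules.pullback ψ).obj M) ⟶ N)
    (h : ∀ (T : W.Opens) (s : Γ(M, T)),
      a.app (φ ⁻¹ᵁ (ψ ⁻¹ᵁ T)) (sec φ _ (le_refl (φ ⁻¹ᵁ (ψ ⁻¹ᵁ T))) (sec ψ M (le_refl (ψ ⁻¹ᵁ T)) s)) =
      b.app (φ ⁻¹ᵁ (ψ ⁻¹ᵁ T)) (sec φ _ (le_refl (φ ⁻¹ᵁ (ψ ⁻¹ᵁ T))) (sec ψ M (le_refl (ψ ⁻¹ᵁ T)) s))) :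
    a = b := by
  apply ((Scheme.Modules.pullbackPushforwardAdjunction φ).homEquiv _ _).injective
  apply ((Scheme.Modules.pullbackPushforwardAdjunction ψ).homEquiv _ _).injective
  rw [Adjunction.homEquiv_unit, Adjunction.homEquiv_unit, Adjunction.homEquiv_unit,
    Adjunction.homEquiv_unit]
  ext T s
  have h1 := unit_app_eq ψ M T s
  have h2 := unit_app_eq φ ((Scheme.Modules.pullback ψ).obj M) (ψ ⁻¹ᵁ T) (sec ψ M (le_refl (ψ ⁻¹ᵁ T)) s)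
  have key : ∀ c : (Scheme.Modules.pullback φ).obj ((Scheme.Modules.pullback ψ).obj M) ⟶ N,
      c.app (φ ⁻¹ᵁ (ψ ⁻¹ᵁ T)) (((Scheme.Modules.pullbackPushforwardAdjunction φ).unit.app
        ((Scheme.Modules.pullback ψ).obj M)).app (ψ ⁻¹ᵁ T)
        (((Scheme.Modules.pullbackPushforwardAdjunction ψ).unit.app M).app T s)) =
      c.app (φ ⁻¹ᵁ (ψ ⁻¹ᵁ T)) (sec φ _ (le_refl (φ ⁻¹ᵁ (ψ ⁻¹ᵁ T))) (sec ψ M (le_refl (ψ ⁻¹ᵁ T)) s)) :=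
    fun c => congrArg (c.app (φ ⁻¹ᵁ (ψ ⁻¹ᵁ T))) ((congrArg
      (((Scheme.Modules.pullbackPushforwardAdjunction φ).unit.app
        ((Scheme.Modules.pullback ψ).obj M)).app (ψ ⁻¹ᵁ T)) h1).trans h2)
  exact (key a).trans ((h T s).trans (key b).symm)

section

variable {X S X' S' : Scheme.{u}} {f : X ⟶ S} {g : S' ⟶ S} {f' : X' ⟶ S'} {g' : X' ⟶ X}
  {w : g' ≫ f = f' ≫ g} [HasInjectiveResolutions X.Modules] [HasInjectiveResolutions X'.Modules]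
  {Δ : RDer.DerivedLES (Scheme.Modules.pushforward f)} {Δ' : RDer.DerivedLES (Scheme.Modules.pushforward f')}
  {E : CohCmp.SectCmp f Δ} {E' : CohCmp.SectCmp f' Δ'} (B : CohCmp.GenBC f g f' g' w E E')

/-- The adjoint base change map on sections over `O ≤ g⁻¹ T`. -/
noncomputable def sφ (F : X.Modules) (p : ℕ) {T : S.Opens} {O : S'.Opens} (h : O ≤ g ⁻¹ᵁ T) :
    Γ((Coh.Rpush f p).obj F, T) →+
      Γ((Coh.Rpush f' p).obj ((Scheme.Modules.pullback g').obj F), O) :=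
  (rs ((Coh.Rpush f' p).obj ((Scheme.Modules.pullback g').obj F)) h).comp ((B.φ p F).app T).hom

theorem sφ_apply (F : X.Modules) (p : ℕ) {T : S.Opens} {O : S'.Opens} (h : O ≤ g ⁻¹ᵁ T)
    (s : Γ((Coh.Rpush f p).obj F, T)) :
    sφ B F p h s = rs ((Coh.Rpush f' p).obj ((Scheme.Modules.pullback g').obj F)) h
      ((B.φ p F).app T s) := rfl

theorem rs_sφ (F : X.Modules) (p : ℕ) {T T' : S.Opens} {O O' : S'.Opens} (h : O ≤ g ⁻¹ᵁ T)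
    (h' : O' ≤ g ⁻¹ᵁ T') (hT : T' ≤ T) (hO : O' ≤ O) (s : Γ((Coh.Rpush f p).obj F, T)) :
    rs _ hO (sφ B F p h s) = sφ B F p h' (rs _ hT s) := by
  rw [sφ_apply, sφ_apply, rs_rs]
  refine Eq.trans ?_ (congrArg _ (app_rs' g (B.φ p F) hT s)).symm
  exact (rs_rs _ _ _ _).symm

/-- The adjoint map through `bc`. -/
theorem bc_sec (F : X.Modules) (p : ℕ) {T : S.Opens} {O : S'.Opens} (h : O ≤ g ⁻¹ᵁ T)
    (s : Γ((Coh.Rpush f p).obj F, T)) :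
    (B.bc p F).app O (sec g _ h s) = sφ B F p h s := by
  have h1 : B.φ p F = (Scheme.Modules.pullbackPushforwardAdjunction g).unit.app _ ≫
      (Scheme.Modules.pushforward g).map (B.bc p F) :=
    ((Scheme.Modules.pullbackPushforwardAdjunction g).homEquiv _ _).apply_symm_apply (B.φ p F) |>.symm.trans
      (Adjunction.homEquiv_unit _ _ _ _)
  have h2 := congr(($h1).app T s)
  rw [sφ_apply]
  refine Eq.trans ?_ (congrArg _ h2).symm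
  exact app_rs (B.bc p F) h _

/-- The adjoint map on classes. -/
theorem sφ_eps (F : X.Modules) (p : ℕ) {T : S.Opens} {O : S'.Opens} (h : O ≤ g ⁻¹ᵁ T)
    (hle : f' ⁻¹ᵁ O ≤ g' ⁻¹ᵁ (f ⁻¹ᵁ T)) (x : HO F (f ⁻¹ᵁ T) p) :
    sφ B F p h (Eps.eps f E T F p x) = Eps.eps f' E' O ((Scheme.Modules.pullback g').obj F) p
      (HO.pullU g' F hle p x) :=
  C4.secMap_eps B F h p (HOb.of f F T p x)

end

/-- A section of `M` over `T` satisfying a local condition. -/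
theorem eq_of_locally {M : X.Modules} {T : X.Opens} (s t : Γ(M, T))
    (h : ∀ y ∈ T, ∃ (D : X.Opens) (hD : D ≤ T), y ∈ D ∧ rs M hD s = rs M hD t) : s = t := by
  rw [← sub_eq_zero]
  refine eq_zero_of_locally _ fun y hy => ?_
  obtain ⟨D, hD, hyD, h1⟩ := h y hy
  exact ⟨D, hD, hyD, by rw [map_sub, h1, sub_self]⟩

section Main

variable (f : X ⟶ Y) (g : Y ⟶ Z) (ξ : X ⟶ U) (η : Y ⟶ V) (ζ : Z ⟶ W)
    (φ : U ⟶ V) (ψ : V ⟶ W) (h₁ : f ≫ η = ξ ≫ φ) (h₂ : g ≫ ζ = η ≫ ψ)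
    (hw : (f ≫ g) ≫ ζ = ξ ≫ (φ ≫ ψ))
    [HasInjectiveResolutions X.Modules] [HasInjectiveResolutions Y.Modules] [HasInjectiveResolutions Z.Modules]
    (L : Z.Modules) (p : ℕ)
    {Δζ : RDer.DerivedLES (Scheme.Modules.pushforward ζ)} {Δη : RDer.DerivedLES (Scheme.Modules.pushforward η)}
    {Δξ : RDer.DerivedLES (Scheme.Modules.pushforward ξ)}
    (Eζ : CohCmp.SectCmp ζ Δζ) (Eη : CohCmp.SectCmp η Δη) (Eξ : CohCmp.SectCmp ξ Δξ)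
    (B₂ : CohCmp.GenBC ζ ψ η g h₂ Eζ Eη) (B₁ : CohCmp.GenBC η φ ξ f h₁ Eη Eξ)
    (B : CohCmp.GenBC ζ (φ ≫ ψ) ξ (f ≫ g) hw Eζ Eξ)

theorem le_comp {O : U.Opens} {O' : V.Opens} {T : W.Opens} (h : O ≤ φ ⁻¹ᵁ O') (h' : O' ≤ ψ ⁻¹ᵁ T) :
    O ≤ (φ ≫ ψ) ⁻¹ᵁ T := h.trans (φ.preimage_mono h')

theorem sφ_comp_eps {O : U.Opens} {O' : V.Opens} {T : W.Opens} (h : O ≤ φ ⁻¹ᵁ O') (h' : O' ≤ ψ ⁻¹ᵁ T)
    (x : HO L (ζ ⁻¹ᵁ T) p) :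
    sφ B L p (le_comp φ ψ h h') (Eps.eps ζ Eζ T L p x) =
      ((Coh.Rpush ξ p).map (cmp f g L)).app O
        (sφ B₁ ((Scheme.Modules.pullback g).obj L) p h (sφ B₂ L p h' (Eps.eps ζ Eζ T L p x))) := by
  rw [sφ_eps B₂ L p h' (HOb.preimage_le ζ η ψ g h₂ h') x,
    sφ_eps B₁ _ p h (HOb.preimage_le η ξ φ f h₁ h),
    sφ_eps B L p (le_comp φ ψ h h') (HOb.preimage_le ζ ξ (φ ≫ ψ) (f ≫ g) hw (le_comp φ ψ h h')) x,
    ← Eps.eps_map, pullU_comp]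

theorem sφ_comp {O : U.Opens} {O' : V.Opens} {T : W.Opens} (h : O ≤ φ ⁻¹ᵁ O') (h' : O' ≤ ψ ⁻¹ᵁ T)
    (s : Γ((Coh.Rpush ζ p).obj L, T)) :
    sφ B L p (le_comp φ ψ h h') s =
      ((Coh.Rpush ξ p).map (cmp f g L)).app O
        (sφ B₁ ((Scheme.Modules.pullback g).obj L) p h (sφ B₂ L p h' s)) := by
  refine eq_of_locally _ _ fun y hy => ?_
  obtain ⟨T', hT', hyT', x, hx⟩ := Eps.locally_surjective ζ Eζ p L T s (ψ (φ y)) (h' (h hy))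
  have k' : O' ⊓ ψ ⁻¹ᵁ T' ≤ ψ ⁻¹ᵁ T' := inf_le_right
  have k : O ⊓ φ ⁻¹ᵁ (O' ⊓ ψ ⁻¹ᵁ T') ≤ φ ⁻¹ᵁ (O' ⊓ ψ ⁻¹ᵁ T') := inf_le_right
  refine ⟨O ⊓ φ ⁻¹ᵁ (O' ⊓ ψ ⁻¹ᵁ T'), inf_le_left, ⟨hy, h hy, hyT'⟩, ?_⟩
  have r1 := rs_sφ B₁ ((Scheme.Modules.pullback g).obj L) p h k inf_le_left inf_le_left (sφ B₂ L p h' s)
  have r2 := rs_sφ B₂ L p h' k' hT' inf_le_left s
  rw [rs_sφ B L p (le_comp φ ψ h h') (le_comp φ ψ k k') hT' inf_le_left, ← app_rs, r1, r2, ← hx]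
  exact sφ_comp_eps f g ξ η ζ φ ψ h₁ h₂ hw L p Eζ Eη Eξ B₂ B₁ B k k' x

/-- Base change maps compose. -/
theorem bc_comp :
    (Scheme.Modules.pullbackComp φ ψ).hom.app ((Coh.Rpush ζ p).obj L) ≫ B.bc p L =
      (Scheme.Modules.pullback φ).map (B₂.bc p L) ≫ B₁.bc p ((Scheme.Modules.pullback g).obj L) ≫
        (Coh.Rpush ξ p).map ((Scheme.Modules.pullbackComp f g).hom.app L) := by
  refine hom_ext_pull2 φ ψ _ _ fun T s => ?_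
  have h1 := sec_comp φ ψ ((Coh.Rpush ζ p).obj L) (le_refl (ψ ⁻¹ᵁ T)) (le_refl (φ ⁻¹ᵁ (ψ ⁻¹ᵁ T)))
    (le_comp φ ψ (le_refl (φ ⁻¹ᵁ (ψ ⁻¹ᵁ T))) (le_refl (ψ ⁻¹ᵁ T))) s
  have h3 := map_sec φ (B₂.bc p L) (le_refl (φ ⁻¹ᵁ (ψ ⁻¹ᵁ T))) (sec ψ _ (le_refl (ψ ⁻¹ᵁ T)) s)
  rw [comp_app, comp_app, comp_app, h1, h3, bc_sec, bc_sec, bc_sec]
  exact sφ_comp f g ξ η ζ φ ψ h₁ h₂ hw L p Eζ Eη Eξ B₂ B₁ B (le_refl (φ ⁻¹ᵁ (ψ ⁻¹ᵁ T)))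
    (le_refl (ψ ⁻¹ᵁ T)) s

end Main

end K56.Horiz
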