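import Groth.Prelude.Def_CohPull
import Mathlib.Algebra.Homology.DerivedCategory.Ext.Map
import Mathlib.CategoryTheory.Abelian.GrothendieckCategory.EnoughInjectives

/-!
# Pullback maps on cohomology attached to `f`-maps of abelian sheaves

For `f : X ⟶ Y` continuous and `ψ : G ⟶ f_* H`: `pm f ψ n : H^n(Y, G) →+ H^n(X, H)`, built from the
prelude's `CohPull.pullAb`.  Naturality, degree zero, connecting maps, composition.
-/

set_option autoImplicit false

universe u

open CategoryTheory CategoryTheory.Limits AlgebraicGeometry TopologicalSpace Opposite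

namespace K56.PMap

section Top

variable {X Y Z : TopCat.{u}}

/-- The transpose `f⁻¹ G ⟶ H` of `ψ : G ⟶ f_* H`. -/
noncomputable abbrev tr (f : X ⟶ Y) {G : CohTop.Ab Y} {H : CohTop.Ab X}
    (ψ : G ⟶ (CohTop.push f).obj H) : (CohPull.inv f).obj G ⟶ H :=
  ((CohPull.invPushAdj f).homEquiv _ _).symm ψ

lemma tr_comp (f : X ⟶ Y) {G G' : CohTop.Ab Y} {H : CohTop.Ab X} (g : G' ⟶ G)
    (ψ : G ⟶ (CohTop.push f).obj H) : tr f (g ≫ ψ) = (CohPull.inv f).map g ≫ tr f ψ :=
  Adjunction.homEquiv_naturality_left_symm _ _ _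

lemma tr_comp' (f : X ⟶ Y) {G : CohTop.Ab Y} {H H' : CohTop.Ab X}
    (ψ : G ⟶ (CohTop.push f).obj H) (h : H ⟶ H') :
    tr f (ψ ≫ (CohTop.push f).map h) = tr f ψ ≫ h :=
  Adjunction.homEquiv_naturality_right_symm _ _ _

/-- The map `H^n(Y, G) → H^n(X, H)` attached to `ψ : G ⟶ f_* H`. -/
noncomputable def pm (f : X ⟶ Y) {G : CohTop.Ab Y} {H : CohTop.Ab X}
    (ψ : G ⟶ (CohTop.push f).obj H) (n : ℕ) : Sheaf.H G n →+ Sheaf.H H n :=
  (Sheaf.H.map (tr f ψ) n).comp (CohPull.pullAb f G n)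

lemma pm_def (f : X ⟶ Y) {G : CohTop.Ab Y} {H : CohTop.Ab X}
    (ψ : G ⟶ (CohTop.push f).obj H) (n : ℕ) (x : Sheaf.H G n) :
    pm f ψ n x = Sheaf.H.map (tr f ψ) n (CohPull.pullAb f G n x) := rfl

lemma pm_apply (f : X ⟶ Y) {G : CohTop.Ab Y} {H : CohTop.Ab X}
    (ψ : G ⟶ (CohTop.push f).obj H) (n : ℕ) (x : Sheaf.H G n) :
    pm f ψ n x = (Abelian.Ext.mk₀ (CohPull.oneTo f)).comp
      ((Abelian.Ext.mapExactFunctor (CohPull.inv f) x).comp (Abelian.Ext.mk₀ (tr f ψ)) (add_zero n))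
      (zero_add n) := by
  refine Eq.trans ?_ (Abelian.Ext.comp_assoc _ _ _ (zero_add n) (add_zero n) (by omega))
  rfl

lemma pullAb_natural (f : X ⟶ Y) {G G' : CohTop.Ab Y} (a : G ⟶ G') (n : ℕ) (x : Sheaf.H G n) :
    CohPull.pullAb f G' n (Sheaf.H.map a n x) =
      Sheaf.H.map ((CohPull.inv f).map a) n (CohPull.pullAb f G n x) := by
  change (Abelian.Ext.mk₀ (CohPull.oneTo f)).comp (Abelian.Ext.mapExactFunctor (CohPull.inv f)
      (Abelian.Ext.comp x (Abelian.Ext.mk₀ a) (add_zero n))) (zero_add n) =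
    Abelian.Ext.comp ((Abelian.Ext.mk₀ (CohPull.oneTo f)).comp (Abelian.Ext.mapExactFunctor (CohPull.inv f)
      x) (zero_add n)) (Abelian.Ext.mk₀ ((CohPull.inv f).map a)) (add_zero n)
  rw [Abelian.Ext.mapExactFunctor_comp, Abelian.Ext.mapExactFunctor_mk₀]
  exact (Abelian.Ext.comp_assoc _ _ _ (zero_add n) (add_zero n) (by omega)).symm

lemma pm_map_left (f : X ⟶ Y) {G G' : CohTop.Ab Y} {H : CohTop.Ab X} (a : G' ⟶ G)
    (ψ : G ⟶ (CohTop.push f).obj H) (n : ℕ) (x : Sheaf.H G' n) :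
    pm f (a ≫ ψ) n x = pm f ψ n (Sheaf.H.map a n x) := by
  rw [pm_def, pm_def, pullAb_natural, tr_comp, Sheaf.H.map_comp_apply]

lemma pm_map_right (f : X ⟶ Y) {G : CohTop.Ab Y} {H H' : CohTop.Ab X}
    (ψ : G ⟶ (CohTop.push f).obj H) (b : H ⟶ H') (n : ℕ) (x : Sheaf.H G n) :
    pm f (ψ ≫ (CohTop.push f).map b) n x = Sheaf.H.map b n (pm f ψ n x) := by
  rw [pm_def, pm_def, tr_comp', Sheaf.H.map_comp_apply]

/-- Compatibility with the connecting maps. -/
theorem pm_extClass (f : X ⟶ Y) {S : ShortComplex (CohTop.Ab Y)} {S' : ShortComplex (CohTop.Ab X)}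
    (hS : S.ShortExact) (hS' : S'.ShortExact)
    (ψ₁ : S.X₁ ⟶ (CohTop.push f).obj S'.X₁) (ψ₂ : S.X₂ ⟶ (CohTop.push f).obj S'.X₂)
    (ψ₃ : S.X₃ ⟶ (CohTop.push f).obj S'.X₃)
    (h₁ : S.f ≫ ψ₂ = ψ₁ ≫ (CohTop.push f).map S'.f)
    (h₂ : S.g ≫ ψ₃ = ψ₂ ≫ (CohTop.push f).map S'.g) {n m : ℕ} (hn : n + 1 = m)
    (x : Sheaf.H S.X₃ n) :
    pm f ψ₁ m (Abelian.Ext.comp x hS.extClass hn) =
      Abelian.Ext.comp (pm f ψ₃ n x) hS'.extClass hn := by
  have hP := hS.map_of_exact (CohPull.inv f)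
  let φ : S.map (CohPull.inv f) ⟶ S' :=
    { τ₁ := tr f ψ₁
      τ₂ := tr f ψ₂
      τ₃ := tr f ψ₃
      comm₁₂ := by
        change tr f ψ₁ ≫ S'.f = (CohPull.inv f).map S.f ≫ tr f ψ₂
        rw [← tr_comp, ← tr_comp', h₁]
      comm₂₃ := by
        change tr f ψ₂ ≫ S'.g = (CohPull.inv f).map S.g ≫ tr f ψ₃
        rw [← tr_comp, ← tr_comp', h₂] }
  have hnat := ShortComplex.ShortExact.extClass_naturality hP hS' φ
  rw [pm_apply, pm_apply, Abelian.Ext.mapExactFunctor_comp, Abelian.Ext.mapExactFunctor_extClass]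
  rw [Abelian.Ext.comp_assoc _ _ _ (zero_add n) hn (by omega)]
  congr 1
  rw [Abelian.Ext.comp_assoc _ _ _ hn (add_zero 1) (by omega),
    Abelian.Ext.comp_assoc _ _ _ (add_zero n) (zero_add 1) (by omega)]
  exact congrArg (fun t => (Abelian.Ext.mapExactFunctor (CohPull.inv f) x).comp t hn) hnat

/-- In degree `0` the pullback map is `ψ` on global sections. -/
theorem equiv₀_pm (f : X ⟶ Y) {G : CohTop.Ab Y} {H : CohTop.Ab X}
    (ψ : G ⟶ (CohTop.push f).obj H) (x : Sheaf.H G 0) :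
    Sheaf.H.equiv₀ H (isTerminalTop : IsTerminal (⊤ : Opens X)) (pm f ψ 0 x) =
      ψ.hom.app (op ⊤) (Sheaf.H.equiv₀ G (isTerminalTop : IsTerminal (⊤ : Opens Y)) x) := by
  rw [pm_def, ← Sheaf.H.equiv₀_naturality, CohPull.equiv₀_pullAb]
  have h1 : (CohPull.invPushAdj f).homEquiv _ _ (tr f ψ) = ψ := Equiv.apply_symm_apply _ _
  have h2 : (CohPull.invPushAdj f).homEquiv _ _ (tr f ψ) =
      (CohPull.invPushAdj f).unit.app G ≫ (CohTop.push f).map (tr f ψ) := Adjunction.homEquiv_unit _ _ _ _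
  have hθ := h2.symm.trans h1
  have := congr_arg (fun t => (t.hom.app (op ⊤)) (Sheaf.H.equiv₀ G isTerminalTop x)) hθ
  simp only [ObjectProperty.FullSubcategory.comp_hom, NatTrans.comp_app, ConcreteCategory.comp_apply] at this
  exact this


/-- Every abelian sheaf sits in a short exact sequence with injective middle term. -/
theorem exists_ses (G : CohTop.Ab Y) : ∃ S : ShortComplex (CohTop.Ab Y), S.ShortExact ∧
    Injective S.X₂ ∧ S.X₁ = G := by
  have : EnoughInjectives (CohTop.Ab Y) := inferInstance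
  refine ⟨ShortComplex.mk (Injective.ι G) (cokernel.π (Injective.ι G)) (cokernel.condition _), ?_,
    inferInstanceAs (Injective (Injective.under G)), rfl⟩
  exact
    { exact := ShortComplex.exact_cokernel _
      mono_f := inferInstanceAs (Mono (Injective.ι G))
      epi_g := inferInstanceAs (Epi (cokernel.π (Injective.ι G))) }

/-- Uniqueness principle: two families commuting with connecting maps which agree in degree `0` agree. -/
theorem uniq (T : CohTop.Ab Y ⥤ CohTop.Ab X) [PreservesFiniteLimits T] [PreservesFiniteColimits T] [T.Additive]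
    (α β : ∀ (G : CohTop.Ab Y) (n : ℕ), Sheaf.H G n → Sheaf.H (T.obj G) n)
    (hα : ∀ (S : ShortComplex (CohTop.Ab Y)) (hS : S.ShortExact) (n : ℕ) (x : Sheaf.H S.X₃ n),
      α S.X₁ (n + 1) (Abelian.Ext.comp x hS.extClass rfl) =
        Abelian.Ext.comp (α S.X₃ n x) (hS.map_of_exact T).extClass rfl)
    (hβ : ∀ (S : ShortComplex (CohTop.Ab Y)) (hS : S.ShortExact) (n : ℕ) (x : Sheaf.H S.X₃ n),
      β S.X₁ (n + 1) (Abelian.Ext.comp x hS.extClass rfl) =
        Abelian.Ext.comp (β S.X₃ n x) (hS.map_of_exact T).extClass rfl)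
    (h0 : ∀ (G : CohTop.Ab Y) (x : Sheaf.H G 0), α G 0 x = β G 0 x)
    (G : CohTop.Ab Y) (n : ℕ) (x : Sheaf.H G n) : α G n x = β G n x := by
  induction n generalizing G with
  | zero => exact h0 G x
  | succ n ih =>
    obtain ⟨S, hS, hI, rfl⟩ := exists_ses G
    obtain ⟨y, rfl⟩ := Abelian.Ext.covariant_sequence_exact₁ _ hS x (Abelian.Ext.eq_zero_of_injective _) rfl
    rw [hα, hβ, ih]

lemma unit_map_tr (f : X ⟶ Y) {G : CohTop.Ab Y} {H : CohTop.Ab X}
    (ψ : G ⟶ (CohTop.push f).obj H) :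
    (CohPull.invPushAdj f).unit.app G ≫ (CohTop.push f).map (tr f ψ) = ψ :=
  ((Adjunction.homEquiv_unit _ _ _ _).symm.trans (Equiv.apply_symm_apply _ _))

lemma unit_natural (f : X ⟶ Y) {G G' : CohTop.Ab Y} (a : G ⟶ G') :
    a ≫ (CohPull.invPushAdj f).unit.app G' =
      (CohPull.invPushAdj f).unit.app G ≫ (CohTop.push f).map ((CohPull.inv f).map a) :=
  (CohPull.invPushAdj f).unit.naturality a

lemma pm_comp_aux (f : X ⟶ Y) (g : Y ⟶ Z) (M : CohTop.Ab Z) (n : ℕ) (x : Sheaf.H M n) :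
    pm f ((CohPull.invPushAdj f).unit.app ((CohPull.inv g).obj M)) n
        (pm g ((CohPull.invPushAdj g).unit.app M) n x) =
      pm (f ≫ g) (H := (CohPull.inv f).obj ((CohPull.inv g).obj M)) ((CohPull.invPushAdj g).unit.app M ≫
        (CohTop.push g).map ((CohPull.invPushAdj f).unit.app ((CohPull.inv g).obj M))) n x := by
  refine uniq (CohPull.inv g ⋙ CohPull.inv f)
    (fun M n x => pm f ((CohPull.invPushAdj f).unit.app ((CohPull.inv g).obj M)) n
        (pm g ((CohPull.invPushAdj g).unit.app M) n x))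
    (fun M n x => pm (f ≫ g) (H := (CohPull.inv f).obj ((CohPull.inv g).obj M))
      ((CohPull.invPushAdj g).unit.app M ≫
        (CohTop.push g).map ((CohPull.invPushAdj f).unit.app ((CohPull.inv g).obj M))) n x)
    ?_ ?_ ?_ M n x
  · intro S hS n x
    refine (congrArg (pm f ((CohPull.invPushAdj f).unit.app ((CohPull.inv g).obj S.X₁)) (n + 1))
      (pm_extClass g hS (hS.map_of_exact (CohPull.inv g)) _ ((CohPull.invPushAdj g).unit.app _)
      ((CohPull.invPushAdj g).unit.app _) (unit_natural g S.f) (unit_natural g S.g) rfl x)).trans ?_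
    exact pm_extClass f (hS.map_of_exact (CohPull.inv g))
      (hS.map_of_exact (CohPull.inv g ⋙ CohPull.inv f)) _ ((CohPull.invPushAdj f).unit.app _)
      ((CohPull.invPushAdj f).unit.app _) (unit_natural f _) (unit_natural f _) rfl _
  · intro S hS n x
    refine pm_extClass (f ≫ g) hS
      (hS.map_of_exact (CohPull.inv g ⋙ CohPull.inv f)) _ ((CohPull.invPushAdj g).unit.app _ ≫
        (CohTop.push g).map ((CohPull.invPushAdj f).unit.app ((CohPull.inv g).obj _)))
      ((CohPull.invPushAdj g).unit.app _ ≫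
        (CohTop.push g).map ((CohPull.invPushAdj f).unit.app ((CohPull.inv g).obj _))) ?_ ?_ rfl _
    · change S.f ≫ (CohPull.invPushAdj g).unit.app _ ≫ _ = (_ ≫ _) ≫
        (CohTop.push g).map ((CohTop.push f).map ((CohPull.inv f).map ((CohPull.inv g).map S.f)))
      rw [← Category.assoc, unit_natural g, Category.assoc, Category.assoc, ← Functor.map_comp,
        ← Functor.map_comp, unit_natural f]
    · change S.g ≫ (CohPull.invPushAdj g).unit.app _ ≫ _ = (_ ≫ _) ≫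
        (CohTop.push g).map ((CohTop.push f).map ((CohPull.inv f).map ((CohPull.inv g).map S.g)))
      rw [← Category.assoc, unit_natural g, Category.assoc, Category.assoc, ← Functor.map_comp,
        ← Functor.map_comp, unit_natural f]
  · intro G x
    beta_reduce
    apply (Sheaf.H.equiv₀ _ (isTerminalTop : IsTerminal (⊤ : Opens X))).injective
    rw [equiv₀_pm, equiv₀_pm, equiv₀_pm]
    rfl

/-- Composition. -/
theorem pm_comp (f : X ⟶ Y) (g : Y ⟶ Z) {M : CohTop.Ab Z} {N : CohTop.Ab Y} {P : CohTop.Ab X}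
    (ψ : M ⟶ (CohTop.push g).obj N) (φ : N ⟶ (CohTop.push f).obj P) (n : ℕ) (x : Sheaf.H M n) :
    pm f φ n (pm g ψ n x) =
      pm (f ≫ g) (H := P) (ψ ≫ (CohTop.push g).map φ) n x := by
  have h1 : pm g ψ n x = Sheaf.H.map (tr g ψ) n (pm g ((CohPull.invPushAdj g).unit.app M) n x) := by
    rw [← pm_map_right, unit_map_tr]
  have h2 : tr g ψ ≫ φ = (CohPull.invPushAdj f).unit.app _ ≫ (CohTop.push f).map (tr f (tr g ψ ≫ φ)) :=
    (unit_map_tr f _).symm
  rw [h1, ← pm_map_left, h2, pm_map_right, pm_comp_aux, ← pm_map_right]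
  refine congrArg (fun t => pm (f ≫ g) (H := P) t n x) ?_
  have e : ((CohPull.invPushAdj g).unit.app M ≫
      (CohTop.push g).map ((CohPull.invPushAdj f).unit.app ((CohPull.inv g).obj M))) ≫
        (CohTop.push g).map ((CohTop.push f).map (tr f (tr g ψ ≫ φ))) =
      ψ ≫ (CohTop.push g).map φ := by
    rw [Category.assoc, ← Functor.map_comp, unit_map_tr, Functor.map_comp, ← Category.assoc,
      unit_map_tr]
  exact e

/-- The identity. -/
theorem pm_id {M N : CohTop.Ab X} (ψ : M ⟶ N) (n : ℕ) (x : Sheaf.H M n) :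
    pm (𝟙 X) (G := M) (H := N) ψ n x = Sheaf.H.map ψ n x := by
  suffices h : pm (𝟙 X) (G := M) (H := M) (𝟙 M) n x = x by
    have h2 := pm_map_right (𝟙 X) (G := M) (H := M) (𝟙 M) ψ n x
    rw [h] at h2
    rw [← h2]
    exact congrArg (fun t => pm (𝟙 X) (G := M) (H := N) t n x) (Category.id_comp _).symm
  refine uniq (𝟭 (CohTop.Ab X)) (fun M n x => pm (𝟙 X) (G := M) (H := M) (𝟙 M) n x)
    (fun M n x => x) ?_ ?_ ?_ M n x
  · intro S hS n x
    refine pm_extClass (𝟙 X) hS (hS.map_of_exact (𝟭 _)) _ (𝟙 _) (𝟙 _) ?_ ?_ rfl x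
    · exact (Category.comp_id _).trans (Category.id_comp _).symm
    · exact (Category.comp_id _).trans (Category.id_comp _).symm
  · intro S hS n x
    rfl
  · intro G x
    beta_reduce
    apply (Sheaf.H.equiv₀ _ (isTerminalTop : IsTerminal (⊤ : Opens X))).injective
    rw [equiv₀_pm]
    rfl

end Top

end K56.PMap
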