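import Groth.Agent.Coherent.K56.HTop
import Groth.Agent.Coherent.K56.Edge

/-!
# The edge map `H^n(Y, f_* G) → H^n(X, G)` for `f_*`-acyclic `G`
-/

set_option autoImplicit false

universe u

open CategoryTheory CategoryTheory.Limits AlgebraicGeometry TopologicalSpace Opposite

namespace K56.PushEdge

variable {X Y : Scheme.{u}} (f : X ⟶ Y)

theorem bijective [HasInjectiveResolutions X.Modules] (G : X.Modules)
    (hG : Groth.Agent.Cohder.RDAcyc.IsAcyc (Scheme.Modules.pushforward f) G) (n : ℕ) :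
    Function.Bijective (CohPull.pushEdge f G n) := by
  have h1 : ∀ x, HT.res G ⊤ n (HT.of G n (CohPull.pushEdge f G n x)) =
      Edge.edge f G ⊤ n (HT.res _ ⊤ n (HT.of _ n x)) := fun x => by
    rw [HT.of_pushEdge]
    exact (HT.pull_res f (𝟙 _) (le_refl (f ⁻¹ᵁ ⊤)) n (HT.of _ n x)).symm
  have h2 : Function.Bijective (fun x => Edge.edge f G ⊤ n (HT.res _ ⊤ n (HT.of _ n x))) :=
    (Edge.edge_bijective f ⊤ n G hG).comp ((HT.res_top_bijective _ n).comp (HT.of _ n).bijective)
  have h3 : (fun x => Edge.edge f G ⊤ n (HT.res _ ⊤ n (HT.of _ n x))) =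
      (fun y => HT.res G ⊤ n (HT.of G n y)) ∘ (CohPull.pushEdge f G n) := funext fun x => (h1 x).symm
  rw [h3] at h2
  exact (Function.Bijective.of_comp_iff' ((HT.res_top_bijective G n).comp (HT.of G n).bijective) _).1 h2

end K56.PushEdge
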