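import Groth.Agent.Coherent.K56.PMap
import Groth.Prelude.Def_CohCmp
import Groth.Agent.Fga.SecComp

/-!
# Pullback maps on cohomology over opens, at the level of sections

For `g : X ⟶ Y`, `ψ : F ⟶ g_* G` (O-modules), opens `U ⊆ Y`, `U' ⊆ g⁻¹ U`:
`pmOn g ψ h n : H^n(U, F|_U) →+ H^n(U', G|_{U'})`.
-/

set_option autoImplicit false

universe u

open CategoryTheory CategoryTheory.Limits AlgebraicGeometry TopologicalSpace Opposite

namespace K56.SchMap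

open K56.PMap

variable {X Y Z : Scheme.{u}}

/-- Restriction of sections. -/
noncomputable abbrev rs (G : X.Modules) {V W : X.Opens} (h : W ≤ V) : Γ(G, V) →+ Γ(G, W) :=
  (G.presheaf.map (homOfLE h).op).hom

theorem rs_rs (G : X.Modules) {V W T : X.Opens} (h : W ≤ V) (h' : T ≤ W) (s : Γ(G, V)) :
    rs G h' (rs G h s) = rs G (h'.trans h) s := by
  change (G.presheaf.map (homOfLE h).op ≫ G.presheaf.map (homOfLE h').op).hom s = _
  rw [← Functor.map_comp]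
  rfl

theorem rs_self (G : X.Modules) {V : X.Opens} (h : V ≤ V) (s : Γ(G, V)) : rs G h s = s := by
  change (G.presheaf.map (𝟙 _)).hom s = s
  rw [CategoryTheory.Functor.map_id]
  rfl

theorem app_rs {M N : X.Modules} (φ : M ⟶ N) {V W : X.Opens} (h : W ≤ V) (s : Γ(M, V)) :
    φ.app W (rs M h s) = rs N h (φ.app V s) :=
  congr($(φ.mapPresheaf.naturality (homOfLE h).op) s)

/-- For `ψ : F ⟶ g_* G`. -/
theorem app_rs' (g : X ⟶ Y) {F : Y.Modules} {G : X.Modules}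
    (ψ : F ⟶ (Scheme.Modules.pushforward g).obj G) {V W : Y.Opens} (h : W ≤ V) (s : Γ(F, V)) :
    (show Γ(G, g ⁻¹ᵁ W) from ψ.app W (rs F h s)) =
      rs G (g.preimage_mono h) (show Γ(G, g ⁻¹ᵁ V) from ψ.app V s) :=
  app_rs ψ h s

theorem image_resLE_le (g : X ⟶ Y) {U : Y.Opens} {U' : X.Opens} (h : U' ≤ g ⁻¹ᵁ U)
    (W : U.toScheme.Opens) : U'.ι ''ᵁ ((g.resLE U U' h) ⁻¹ᵁ W) ≤ g ⁻¹ᵁ (U.ι ''ᵁ W) := by
  rw [← Scheme.Hom.le_resLE_preimage_iff g h]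

/-- The map on sections. -/
noncomputable def resHomApp (g : X ⟶ Y) {F : Y.Modules} {G : X.Modules}
    (ψ : F ⟶ (Scheme.Modules.pushforward g).obj G) {U : Y.Opens} {U' : X.Opens} (h : U' ≤ g ⁻¹ᵁ U)
    (W : U.toScheme.Opens) : Γ(F, U.ι ''ᵁ W) →+ Γ(G, U'.ι ''ᵁ ((g.resLE U U' h) ⁻¹ᵁ W)) :=
  (rs G (image_resLE_le g h W)).comp (show Γ(F, U.ι ''ᵁ W) →+ Γ(G, g ⁻¹ᵁ (U.ι ''ᵁ W)) from
    (ψ.app (U.ι ''ᵁ W)).hom)

theorem resHomApp_apply (g : X ⟶ Y) {F : Y.Modules} {G : X.Modules}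
    (ψ : F ⟶ (Scheme.Modules.pushforward g).obj G) {U : Y.Opens} {U' : X.Opens} (h : U' ≤ g ⁻¹ᵁ U)
    (W : U.toScheme.Opens) (s : Γ(F, U.ι ''ᵁ W)) :
    resHomApp g ψ h W s = rs G (image_resLE_le g h W) (ψ.app (U.ι ''ᵁ W) s) := rfl

theorem resHomApp_rs (g : X ⟶ Y) {F : Y.Modules} {G : X.Modules}
    (ψ : F ⟶ (Scheme.Modules.pushforward g).obj G) {U : Y.Opens} {U' : X.Opens} (h : U' ≤ g ⁻¹ᵁ U)
    {W W' : U.toScheme.Opens} (hW : W' ≤ W) (s : Γ(F, U.ι ''ᵁ W)) :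
    resHomApp g ψ h W' (rs F (Scheme.Hom.image_mono U.ι hW) s) =
      rs G (Scheme.Hom.image_mono U'.ι ((g.resLE U U' h).preimage_mono hW)) (resHomApp g ψ h W s) := by
  rw [resHomApp_apply, resHomApp_apply, rs_rs]
  refine (congrArg _ (app_rs' g ψ (Scheme.Hom.image_mono U.ι hW) s)).trans ?_
  exact rs_rs G _ _ _

/-- The map of abelian sheaves `F|_U ⟶ g_* (G|_{U'})` induced by `ψ : F ⟶ g_* G`. -/
noncomputable def resHom (g : X ⟶ Y) {F : Y.Modules} {G : X.Modules}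
    (ψ : F ⟶ (Scheme.Modules.pushforward g).obj G) {U : Y.Opens} {U' : X.Opens} (h : U' ≤ g ⁻¹ᵁ U) :
    Coh.toAb (F.restrict U.ι) ⟶
      (CohTop.push (g.resLE U U' h).base).obj (Coh.toAb (G.restrict U'.ι)) :=
  ⟨{ app := fun W => AddCommGrpCat.ofHom (resHomApp g ψ h W.unop)
     naturality := fun W W' i => by
        ext s
        exact resHomApp_rs g ψ h (leOfHom i.unop) s }⟩

theorem resHom_app (g : X ⟶ Y) {F : Y.Modules} {G : X.Modules}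
    (ψ : F ⟶ (Scheme.Modules.pushforward g).obj G) {U : Y.Opens} {U' : X.Opens} (h : U' ≤ g ⁻¹ᵁ U)
    (W : U.toScheme.Opens) (s : Γ(F, U.ι ''ᵁ W)) :
    (resHom g ψ h).hom.app (op W) s = resHomApp g ψ h W s := rfl

/-- Congruence in the map. -/
theorem pm_congr {X Y : TopCat.{u}} {f f' : X ⟶ Y} (hf : f = f') {G : CohTop.Ab Y} {H : CohTop.Ab X}
    (ψ : G ⟶ (CohTop.push f).obj H) (ψ' : G ⟶ (CohTop.push f').obj H)
    (h : ∀ (V : Opens Y) (hV : (Opens.map f').obj V ≤ (Opens.map f).obj V) (s : G.obj.obj (op V)),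
      H.obj.map (homOfLE hV).op (ψ.hom.app (op V) s) = ψ'.hom.app (op V) s) (n : ℕ)
    (x : Sheaf.H G n) : pm f ψ n x = pm f' ψ' n x := by
  subst hf
  have : ψ = ψ' := by
    apply Sheaf.hom_ext
    ext V s
    refine Eq.trans ?_ (h V.unop le_rfl s)
    have h2 : H.obj.map (homOfLE (le_refl ((Opens.map f).obj V.unop))).op = 𝟙 _ := by
      exact H.obj.map_id _
    refine Eq.trans ?_ (congr($(h2) (ψ.hom.app V s))).symm
    rfl
  rw [this]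

/-- The pullback map `H^n(U, F|_U) →+ H^n(U', G|_{U'})`. -/
noncomputable def pmOn (g : X ⟶ Y) {F : Y.Modules} {G : X.Modules}
    (ψ : F ⟶ (Scheme.Modules.pushforward g).obj G) {U : Y.Opens} {U' : X.Opens} (h : U' ≤ g ⁻¹ᵁ U)
    (n : ℕ) : Coh.HHon Y F U n →+ Coh.HHon X G U' n :=
  pm (g.resLE U U' h).base (resHom g ψ h) n

theorem pmOn_def (g : X ⟶ Y) {F : Y.Modules} {G : X.Modules}
    (ψ : F ⟶ (Scheme.Modules.pushforward g).obj G) {U : Y.Opens} {U' : X.Opens} (h : U' ≤ g ⁻¹ᵁ U)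
    (n : ℕ) (x : Coh.HHon Y F U n) : pmOn g ψ h n x = pm (g.resLE U U' h).base (resHom g ψ h) n x := rfl

theorem pmOn_map_left (g : X ⟶ Y) {F F' : Y.Modules} {G : X.Modules} (a : F' ⟶ F)
    (ψ : F ⟶ (Scheme.Modules.pushforward g).obj G) {U : Y.Opens} {U' : X.Opens} (h : U' ≤ g ⁻¹ᵁ U)
    (n : ℕ) (x : Coh.HHon Y F' U n) :
    pmOn g (a ≫ ψ) h n x = pmOn g ψ h n (CohPull.mapH ((Scheme.Modules.restrictFunctor U.ι).map a) n x) := by
  rw [pmOn_def, pmOn_def, ← pm_map_left]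
  refine congrArg (fun t => pm (g.resLE U U' h).base t n x) ?_
  apply Sheaf.hom_ext
  ext W s
  rfl

theorem pmOn_map_right (g : X ⟶ Y) {F : Y.Modules} {G G' : X.Modules}
    (ψ : F ⟶ (Scheme.Modules.pushforward g).obj G) (b : G ⟶ G') {U : Y.Opens} {U' : X.Opens}
    (h : U' ≤ g ⁻¹ᵁ U) (n : ℕ) (x : Coh.HHon Y F U n) :
    pmOn g (ψ ≫ (Scheme.Modules.pushforward g).map b) h n x =
      CohPull.mapH ((Scheme.Modules.restrictFunctor U'.ι).map b) n (pmOn g ψ h n x) := by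
  rw [pmOn_def, pmOn_def, ← pm_map_right]
  refine congrArg (fun t => pm (g.resLE U U' h).base t n x) ?_
  apply Sheaf.hom_ext
  ext W s
  exact (app_rs b (image_resLE_le g h W.unop) (ψ.app (U.ι ''ᵁ W.unop) s)).symm

theorem resHomApp_comp (g : X ⟶ Y) (k : Y ⟶ Z) {M : Z.Modules} {N : Y.Modules} {P : X.Modules}
    (ψ : M ⟶ (Scheme.Modules.pushforward k).obj N) (φ : N ⟶ (Scheme.Modules.pushforward g).obj P)
    (θ : M ⟶ (Scheme.Modules.pushforward (g ≫ k)).obj P)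
    (hθ : ∀ (W : Z.Opens) (s : Γ(M, W)), θ.app W s = φ.app (k ⁻¹ᵁ W) (ψ.app W s))
    {U : Z.Opens} {U' : Y.Opens} {U'' : X.Opens} (h : U' ≤ k ⁻¹ᵁ U) (h' : U'' ≤ g ⁻¹ᵁ U')
    (h'' : U'' ≤ (g ≫ k) ⁻¹ᵁ U) (W : U.toScheme.Opens)
    (hW : ((g ≫ k).resLE U U'' h'') ⁻¹ᵁ W ≤ (g.resLE U' U'' h') ⁻¹ᵁ ((k.resLE U U' h) ⁻¹ᵁ W))
    (s : Γ(M, U.ι ''ᵁ W)) :
    rs P (Scheme.Hom.image_mono U''.ι hW)
      (resHomApp g φ h' ((k.resLE U U' h) ⁻¹ᵁ W) (resHomApp k ψ h W s)) =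
      resHomApp (g ≫ k) θ h'' W s := by
  rw [resHomApp_apply, resHomApp_apply, resHomApp_apply, rs_rs]
  rw [hθ]
  refine (congrArg _ (app_rs' g φ (image_resLE_le k h W) (ψ.app (U.ι ''ᵁ W) s))).trans ?_
  exact rs_rs P _ _ _

end K56.SchMap
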