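import Groth.Agent.Coherent.K56.SchMap
import Groth.Agent.Ega3B.RpushAbCmp
import Groth.Agent.PerfB.ExactRestrict

/-!
# Pullback maps over opens: composition, degree zero, connecting maps, `pullOn`, `resLE`
-/

set_option autoImplicit false

universe u

open CategoryTheory CategoryTheory.Limits AlgebraicGeometry TopologicalSpace Opposite

namespace K56.SchMap

open K56.PMap

variable {X Y Z : Scheme.{u}}

/-- Composition. -/
theorem pmOn_comp (g : X ⟶ Y) (k : Y ⟶ Z) {M : Z.Modules} {N : Y.Modules} {P : X.Modules}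
    (ψ : M ⟶ (Scheme.Modules.pushforward k).obj N) (φ : N ⟶ (Scheme.Modules.pushforward g).obj P)
    (θ : M ⟶ (Scheme.Modules.pushforward (g ≫ k)).obj P)
    (hθ : ∀ (W : Z.Opens) (s : Γ(M, W)), θ.app W s = φ.app (k ⁻¹ᵁ W) (ψ.app W s))
    {U : Z.Opens} {U' : Y.Opens} {U'' : X.Opens} (h : U' ≤ k ⁻¹ᵁ U) (h' : U'' ≤ g ⁻¹ᵁ U')
    (h'' : U'' ≤ (g ≫ k) ⁻¹ᵁ U) (n : ℕ) (x : Coh.HHon Z M U n) :
    pmOn g φ h' n (pmOn k ψ h n x) = pmOn (g ≫ k) θ h'' n x := by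
  refine (pm_comp (g.resLE U' U'' h').base (k.resLE U U' h).base (resHom k ψ h) (resHom g φ h') n x).trans ?_
  refine pm_congr ?_ _ _ (fun W hW s => ?_) n x
  · rw [← Scheme.Hom.comp_base, Scheme.Hom.resLE_comp_resLE]
  · exact resHomApp_comp g k ψ φ θ hθ h h' h'' W hW s

/-- Composition, with a specified composite. -/
theorem pmOn_comp' {g : X ⟶ Y} {k : Y ⟶ Z} {r : X ⟶ Z} (e : g ≫ k = r) {M : Z.Modules}
    {N : Y.Modules} {P : X.Modules}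
    (ψ : M ⟶ (Scheme.Modules.pushforward k).obj N) (φ : N ⟶ (Scheme.Modules.pushforward g).obj P)
    (θ : M ⟶ (Scheme.Modules.pushforward r).obj P)
    (hθ : ∀ (W : Z.Opens) (hW : r ⁻¹ᵁ W ≤ g ⁻¹ᵁ (k ⁻¹ᵁ W)) (s : Γ(M, W)),
      θ.app W s = rs P hW (φ.app (k ⁻¹ᵁ W) (ψ.app W s)))
    {U : Z.Opens} {U' : Y.Opens} {U'' : X.Opens} (h : U' ≤ k ⁻¹ᵁ U) (h' : U'' ≤ g ⁻¹ᵁ U')
    (h'' : U'' ≤ r ⁻¹ᵁ U) (n : ℕ) (x : Coh.HHon Z M U n) :
    pmOn g φ h' n (pmOn k ψ h n x) = pmOn r θ h'' n x := by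
  subst e
  exact pmOn_comp g k ψ φ θ (fun W s => (hθ W le_rfl s).trans (rs_self P _ _)) h h' h'' n x

/-- Congruence in the map. -/
theorem pmOn_congr {g g' : X ⟶ Y} (e : g = g') {M : Y.Modules} {N : X.Modules}
    (ψ : M ⟶ (Scheme.Modules.pushforward g).obj N) (ψ' : M ⟶ (Scheme.Modules.pushforward g').obj N)
    (hψ : ∀ (W : Y.Opens) (hW : g' ⁻¹ᵁ W ≤ g ⁻¹ᵁ W) (s : Γ(M, W)), ψ'.app W s = rs N hW (ψ.app W s))
    {U : Y.Opens} {U' : X.Opens} (h : U' ≤ g ⁻¹ᵁ U) (h' : U' ≤ g' ⁻¹ᵁ U) (n : ℕ)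
    (x : Coh.HHon Y M U n) : pmOn g ψ h n x = pmOn g' ψ' h' n x := by
  subst e
  have : ψ = ψ' := by
    ext W s
    exact ((hψ W le_rfl s).trans (rs_self N _ _)).symm
  rw [this]

theorem equiv₀_sectH0 (F : X.Modules) (U : X.Opens) (s : Γ(F, U)) :
    Sheaf.H.equiv₀ (Coh.toAb (F.restrict U.ι)) (isTerminalTop : IsTerminal (⊤ : U.toScheme.Opens))
      (CohPull.sectH0 F U s) = rs F (le_of_eq U.ι_image_top) s := by
  refine (AddEquiv.apply_symm_apply _ _).trans ?_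
  rfl

/-- Degree zero. -/
theorem pmOn_zero (g : X ⟶ Y) {F : Y.Modules} {G : X.Modules}
    (ψ : F ⟶ (Scheme.Modules.pushforward g).obj G) {U : Y.Opens} {U' : X.Opens} (h : U' ≤ g ⁻¹ᵁ U)
    (s : Γ(F, U)) : pmOn g ψ h 0 (CohPull.sectH0 F U s) =
      CohPull.sectH0 G U' (rs G h (ψ.app U s)) := by
  apply (Sheaf.H.equiv₀ (Coh.toAb (G.restrict U'.ι)) (isTerminalTop : IsTerminal (⊤ : U'.toScheme.Opens))).injective
  refine (equiv₀_pm (g.resLE U U' h).base (resHom g ψ h) _).trans ?_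
  rw [equiv₀_sectH0, equiv₀_sectH0, rs_rs]
  refine (resHomApp_apply g ψ h ⊤ _).trans ?_
  refine (congrArg _ (app_rs' g ψ (le_of_eq U.ι_image_top) s)).trans ?_
  exact rs_rs G _ _ _

/-- Restriction to an open and passage to the underlying abelian sheaf is exact. -/
theorem shortExact_toAbOn {S : ShortComplex X.Modules} (hS : S.ShortExact) (U : X.Opens) :
    (S.map (CohCmp.toAbOn X U)).ShortExact := by
  have h1 : PreservesFiniteColimits (Scheme.Modules.restrictFunctor U.ι) := inferInstance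
  have h2 : PreservesFiniteLimits (Scheme.Modules.restrictFunctor U.ι) := inferInstance
  exact (hS.map_of_exact (Scheme.Modules.restrictFunctor U.ι)).map_of_exact
    (Groth.Agent.Ega3B.RpushAbCmp.toAbF (U : Scheme.{u}))

/-- Connecting maps. -/
theorem pmOn_extδ (g : X ⟶ Y) {S : ShortComplex Y.Modules} {S' : ShortComplex X.Modules}
    {U : Y.Opens} {U' : X.Opens} (h : U' ≤ g ⁻¹ᵁ U)
    (hS : (S.map (CohCmp.toAbOn Y U)).ShortExact) (hS' : (S'.map (CohCmp.toAbOn X U')).ShortExact)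
    (ψ₁ : S.X₁ ⟶ (Scheme.Modules.pushforward g).obj S'.X₁)
    (ψ₂ : S.X₂ ⟶ (Scheme.Modules.pushforward g).obj S'.X₂)
    (ψ₃ : S.X₃ ⟶ (Scheme.Modules.pushforward g).obj S'.X₃)
    (h₁ : S.f ≫ ψ₂ = ψ₁ ≫ (Scheme.Modules.pushforward g).map S'.f)
    (h₂ : S.g ≫ ψ₃ = ψ₂ ≫ (Scheme.Modules.pushforward g).map S'.g) (n : ℕ)
    (x : Coh.HHon Y S.X₃ U n) :
    pmOn g ψ₁ h (n + 1) (CohCmp.extδ hS n x) = CohCmp.extδ hS' n (pmOn g ψ₃ h n x) := by
  refine pm_extClass (g.resLE U U' h).base hS hS' (resHom g ψ₁ h) (resHom g ψ₂ h) (resHom g ψ₃ h)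
    ?_ ?_ rfl x
  · apply Sheaf.hom_ext
    ext W s
    have h3 := congr(($h₁).app (U.ι ''ᵁ W.unop) s)
    refine (congrArg (rs S'.X₂ (image_resLE_le g h W.unop)) h3).trans ?_
    exact (app_rs S'.f (image_resLE_le g h W.unop) (ψ₁.app (U.ι ''ᵁ W.unop) s)).symm
  · apply Sheaf.hom_ext
    ext W s
    have h3 := congr(($h₂).app (U.ι ''ᵁ W.unop) s)
    refine (congrArg (rs S'.X₃ (image_resLE_le g h W.unop)) h3).trans ?_
    exact (app_rs S'.g (image_resLE_le g h W.unop) (ψ₂.app (U.ι ''ᵁ W.unop) s)).symm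

end K56.SchMap
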