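import Groth.Agent.Coherent.K56.SchMap2

/-!
# The prelude's `pullOn`, `resLE`, `pushEdge`, `pullMod` in terms of sections-level pullback maps
-/

set_option autoImplicit false

universe u

open CategoryTheory CategoryTheory.Limits AlgebraicGeometry TopologicalSpace Opposite

namespace K56.SchMap

open K56.PMap Groth.Agent.VarietyB.PullSec Groth.Agent.Fga.SecComp

variable {X Y Z : Scheme.{u}}

theorem unit_app_eq (g : X ⟶ Y) (F : Y.Modules) (W : Y.Opens) (s : Γ(F, W)) :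
    (show Γ((Scheme.Modules.pullback g).obj F, g ⁻¹ᵁ W) from
      ((Scheme.Modules.pullbackPushforwardAdjunction g).unit.app F).app W s) =
      sec g F (le_refl (g ⁻¹ᵁ W)) s :=
  (rs_self _ _ _).symm

theorem sec_eq_rs (g : X ⟶ Y) (F : Y.Modules) {W : Y.Opens} {V : X.Opens} (e : V ≤ g ⁻¹ᵁ W) (s : Γ(F, W)) :
    sec g F e s = rs _ e (((Scheme.Modules.pullbackPushforwardAdjunction g).unit.app F).app W s) := rfl

theorem iso_inv_app {M N : X.Modules} (e : M ≅ N) {V : X.Opens} (s : Γ(M, V)) (t : Γ(N, V))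
    (h : e.hom.app V s = t) : e.inv.app V t = s := by
  rw [← h, ← ConcreteCategory.comp_apply, ← Scheme.Modules.Hom.comp_app, Iso.hom_inv_id]
  rfl

/-- `pullOnIso` on sections. -/
theorem pullOnIso_sec (g : X ⟶ Y) (U : Y.Opens) (U' : X.Opens) (h : U' ≤ g ⁻¹ᵁ U) (F : Y.Modules)
    (W : U.toScheme.Opens) (s : Γ(F, U.ι ''ᵁ W)) :
    (CohPull.pullOnIso g U U' h F).hom.app ((g.resLE U U' h) ⁻¹ᵁ W)
      (sec (g.resLE U U' h) (F.restrict U.ι) (le_refl _) (show Γ(F.restrict U.ι, W) from s)) =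
      sec g F (image_resLE_le g h W) s := by
  have e1 : W ≤ U.ι ⁻¹ᵁ (U.ι ''ᵁ W) := le_of_eq (Scheme.Hom.preimage_image_eq U.ι W).symm
  have e2 : (g.resLE U U' h) ⁻¹ᵁ W ≤ (g.resLE U U' h ≫ U.ι) ⁻¹ᵁ (U.ι ''ᵁ W) := by
    rw [Scheme.Hom.comp_preimage]
    exact Scheme.Hom.preimage_mono _ e1
  have e3 : (g.resLE U U' h) ⁻¹ᵁ W ≤ (U'.ι ≫ g) ⁻¹ᵁ (U.ι ''ᵁ W) := by
    rw [← Scheme.Hom.resLE_comp_ι g h]
    exact e2
  have e4 : (g.resLE U U' h) ⁻¹ᵁ W ≤ U'.ι ⁻¹ᵁ (g ⁻¹ᵁ (U.ι ''ᵁ W)) := e3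
  have h1 := map_sec (g.resLE U U' h) ((Scheme.Modules.restrictFunctorIsoPullback U.ι).hom.app F)
    (le_refl ((g.resLE U U' h) ⁻¹ᵁ W)) (show Γ(F.restrict U.ι, W) from s)
  have h2 : ((Scheme.Modules.restrictFunctorIsoPullback U.ι).hom.app F).app W
      (show Γ(F.restrict U.ι, W) from s) = sec U.ι F e1 s := by
    rw [sec_eq_of_isOpenImmersion]
    congr 1
    exact (rs_self F _ s).symm
  rw [h2] at h1
  have h3 := sec_comp (g.resLE U U' h) U.ι F e1 (le_refl ((g.resLE U U' h) ⁻¹ᵁ W)) e2 s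
  have h4 := sec_congr (Scheme.Hom.resLE_comp_ι g h) F e2 e3 s
  have h5 := sec_comp_inv U'.ι g F (le_refl (g ⁻¹ᵁ (U.ι ''ᵁ W))) e4 e3 s
  have h6 := sec_eq_of_isOpenImmersion U'.ι ((Scheme.Modules.pullback g).obj F) e4
    (sec g F (le_refl (g ⁻¹ᵁ (U.ι ''ᵁ W))) s)
  have h7 := iso_inv_app ((Scheme.Modules.restrictFunctorIsoPullback U'.ι).app
    ((Scheme.Modules.pullback g).obj F)) _ _ h6.symm
  have h8 : (CohPull.pullOnIso g U U' h F).hom.app ((g.resLE U U' h) ⁻¹ᵁ W)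
      (sec (g.resLE U U' h) (F.restrict U.ι) (le_refl _) (show Γ(F.restrict U.ι, W) from s)) =
      ((Scheme.Modules.restrictFunctorIsoPullback U'.ι).app
        ((Scheme.Modules.pullback g).obj F)).inv.app ((g.resLE U U' h) ⁻¹ᵁ W)
      (((Scheme.Modules.pullbackComp U'.ι g).inv.app F).app ((g.resLE U U' h) ⁻¹ᵁ W)
      (((Scheme.Modules.pullbackCongr (Scheme.Hom.resLE_comp_ι g h)).hom.app F).app ((g.resLE U U' h) ⁻¹ᵁ W)
      (((Scheme.Modules.pullbackComp (g.resLE U U' h) U.ι).hom.app F).app ((g.resLE U U' h) ⁻¹ᵁ W)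
      (((Scheme.Modules.pullback (g.resLE U U' h)).map
        ((Scheme.Modules.restrictFunctorIsoPullback U.ι).hom.app F)).app ((g.resLE U U' h) ⁻¹ᵁ W)
      (sec (g.resLE U U' h) (F.restrict U.ι) (le_refl _) (show Γ(F.restrict U.ι, W) from s)))))) := rfl
  rw [h8, h1, h3, h4, ← h5, h7]
  exact rs_rs _ _ _ _

/-- The prelude's `pullMod` as a `pm`. -/
theorem pullMod_eq (g : X ⟶ Y) (M : Y.Modules) (n : ℕ) (x : Coh.HH Y M n) :
    CohPull.pullMod g M n x = pm g.base (H := Coh.toAb ((Scheme.Modules.pullback g).obj M))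
      ((SheafOfModules.toSheaf Y.ringCatSheaf).map
        ((Scheme.Modules.pullbackPushforwardAdjunction g).unit.app M)) n x := rfl

/-- The prelude's `pullOn` is the pullback map of the unit. -/
theorem pullOn_eq (g : X ⟶ Y) (U : Y.Opens) (U' : X.Opens) (h : U' ≤ g ⁻¹ᵁ U) (F : Y.Modules)
    (n : ℕ) (x : Coh.HHon Y F U n) :
    CohPull.pullOn g U U' h F n x =
      pmOn g ((Scheme.Modules.pullbackPushforwardAdjunction g).unit.app F) h n x := by
  refine (pm_map_right (g.resLE U U' h).base (H := Coh.toAb ((Scheme.Modules.pullback (g.resLE U U' h)).obj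
    (F.restrict U.ι)))
    ((SheafOfModules.toSheaf U.toScheme.ringCatSheaf).map
        ((Scheme.Modules.pullbackPushforwardAdjunction (g.resLE U U' h)).unit.app (F.restrict U.ι)))
    ((SheafOfModules.toSheaf U'.toScheme.ringCatSheaf).map (CohPull.pullOnIso g U U' h F).hom) n x).symm.trans ?_
  refine congrArg (fun t => pm (g.resLE U U' h).base t n x) ?_
  apply Sheaf.hom_ext
  ext W s
  refine (congrArg ((CohPull.pullOnIso g U U' h F).hom.app ((g.resLE U U' h) ⁻¹ᵁ W.unop))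
    (unit_app_eq (g.resLE U U' h) (F.restrict U.ι) W.unop s)).trans ?_
  exact pullOnIso_sec g U U' h F W.unop s

/-- The identity, as a morphism to the direct image along `𝟙 X`. -/
noncomputable abbrev idHom (F : X.Modules) : F ⟶ (Scheme.Modules.pushforward (𝟙 X)).obj F :=
  (Scheme.Modules.pushforwardId X).inv.app F

theorem unit_pullbackId (F : X.Modules) :
    (Scheme.Modules.pullbackPushforwardAdjunction (𝟙 X)).unit.app F ≫
      (Scheme.Modules.pushforward (𝟙 X)).map ((Scheme.Modules.pullbackId X).hom.app F) = idHom F := by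
  have h := unit_conjugateEquiv Adjunction.id (Scheme.Modules.pullbackPushforwardAdjunction (𝟙 X))
    (Scheme.Modules.pullbackId X).hom F
  rw [Scheme.Modules.conjugateEquiv_pullbackId_hom] at h
  rw [← h]
  exact Category.id_comp _

/-- The prelude's restriction map is the pullback map of the identity. -/
theorem resLE_eq (F : X.Modules) {U U' : X.Opens} (h : U' ≤ U) (n : ℕ) (x : Coh.HHon X F U n) :
    CohPull.resLE F h n x = pmOn (𝟙 X) (idHom F) (by rwa [Scheme.Hom.id_preimage]) n x := by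
  rw [← unit_pullbackId, pmOn_map_right, ← pullOn_eq]
  rfl

end K56.SchMap
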